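import Cfsg.Agent.Lib.HeldTri.Generated.Data
import Cfsg.Agent.Lib.HeldTri.Generated.Codes.Scan
import Cfsg.Agent.Lib.HeldTri.Generated.Codes.Cents
import Cfsg.Agent.Lib.HeldTri.Generated.Codes.Masks
import Cfsg.Agent.Lib.HeType.Cert.FastEq
import Cfsg.Agent.Lib.HeType.Coords.Mul

/-!
The local data from coordinates of the centraliser and a set of classes fused to the central involution.
-/

set_option autoImplicit false
set_option linter.unusedSectionVars false
set_option maxRecDepth 100000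

namespace CfsgLib.HeldTri

open CfsgLib.HeType CfsgLib.HeType.Cert Gen Subgroup

variable {G : Type*} [Group G] [Finite G] {t : G} {Q : Subgroup G} {x y r : G} {a b : ℕ → G}
  (C : Coords t Q R0 true x y r a b)

/-- The classes whose representatives are conjugate to the central involution are those in `S`. -/
def Fused (t : G) (a b : ℕ → G) (x y r : G) (S : List ℕ) : Prop :=
  ∀ k < 8, IsConj t (cEl t a b x y r (reps.getD k 0)) ↔ k ∈ S

/-- A set of elements commuting with `u` moves `u` to few conjugates. -/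
theorem card_mul_length_le {L K : Subgroup G} (hKL : K ≤ L) {u : G} (hK : ∀ g ∈ K, g * u = u * g) (gs : List G)
    (hgs : ∀ g ∈ gs, g ∈ L) (hnd : (gs.map fun g => g * u * g⁻¹).Nodup) : Nat.card ↥K * gs.length ≤ Nat.card ↥L := by
  let f : ↥K × Fin gs.length → ↥L := fun p =>
    ⟨gs.get p.2 * p.1, L.mul_mem (hgs _ (List.get_mem _ _)) (hKL p.1.2)⟩
  have hf : Function.Injective f := by
    rintro ⟨g, i⟩ ⟨g', j⟩ h
    have h' : gs.get i * (g : G) = gs.get j * (g' : G) := congrArg Subtype.val h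
    have e : gs.get i * u * (gs.get i)⁻¹ = gs.get j * u * (gs.get j)⁻¹ := by
      calc gs.get i * u * (gs.get i)⁻¹ = gs.get i * ((g : G) * u * (g : G)⁻¹) * (gs.get i)⁻¹ := by
            rw [hK g g.2, mul_inv_cancel_right]
        _ = gs.get i * g * u * (gs.get i * g)⁻¹ := by group
        _ = gs.get j * g' * u * (gs.get j * g')⁻¹ := by rw [h']
        _ = gs.get j * ((g' : G) * u * (g' : G)⁻¹) * (gs.get j)⁻¹ := by group
        _ = gs.get j * u * (gs.get j)⁻¹ := by rw [hK g' g'.2, mul_inv_cancel_right]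
    have hij : i = j := by
      have := List.nodup_iff_injective_get.1 hnd
        (a₁ := ⟨i, by simp⟩) (a₂ := ⟨j, by simp⟩) (by simpa using e)
      exact Fin.ext (by simpa using congrArg Fin.val this)
    subst hij
    exact Prod.ext (Subtype.ext (mul_left_cancel h')) rfl
  have := Nat.card_le_card_of_injective f hf
  rwa [Nat.card_prod, Nat.card_fin] at this

theorem incr_spec : ∀ {L : List ℕ}, incr L = true → L.Pairwise (· < ·) ∧ ∀ c ∈ L, c < 21504
  | [], _ => ⟨.nil, by simp⟩
  | [c], h => ⟨List.pairwise_singleton _ _, by simpa [incr, Nat.blt_eq] using h⟩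
  | c :: d :: l, h => by
    simp only [incr, Bool.and_eq_true, Nat.blt_eq] at h
    obtain ⟨h1, h2⟩ := incr_spec h.2
    refine ⟨List.pairwise_cons.2 ⟨fun e he => ?_, h1⟩, fun e he => ?_⟩
    · rcases List.mem_cons.1 he with rfl | he
      · exact h.1
      · exact h.1.trans ((List.pairwise_cons.1 h1).1 e he)
    · rcases List.mem_cons.1 he with rfl | he
      · exact h.1.trans (h2 d List.mem_cons_self)
      · exact h2 e he

theorem incr_nodup {L : List ℕ} (h : incr L = true) : L.Nodup :=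
  (incr_spec h).1.imp fun hlt => hlt.ne

section

include C

local notation "E" => cEl t a b x y r

theorem E_mul {c d : ℕ} (hc : c < 21504) (hd : d < 21504) : E c * E d = E (fMul c d) ∧ fMul c d < 21504 := by
  obtain ⟨h1, h2⟩ := C.cEl_mul hc hd
  rw [fMul_eq hc hd h2]
  exact ⟨h1, h2⟩

theorem E_top : E 64 = t := by
  simp only [cEl, Nat.reduceMod, Nat.reduceDiv, C.frame.el_top, lPaths_gen.1, lWord, List.map_nil, List.prod_nil,
    mul_one]

theorem E_eq_one {c : ℕ} (hc : c < 21504) : E c = 1 ↔ c = 0 :=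
  ⟨fun h => C.cEl_inj hc (by norm_num) (h.trans C.cEl_one.symm), fun h => h ▸ C.cEl_one⟩

theorem com_iff {c d : ℕ} (hc : c < 21504) (hd : d < 21504) : com c d = true ↔ E c * E d = E d * E c := by
  rw [com, beq_iff_eq, (E_mul C hc hd).1, (E_mul C hd hc).1]
  exact ⟨fun h => h ▸ rfl, fun h => C.cEl_inj (E_mul C hc hd).2 (E_mul C hd hc).2 h⟩

theorem E_comm_t (c : ℕ) : E c * t = t * E c := mem_centralizer_singleton_iff.1 C.cEl_mem

theorem exists_code {g : G} (hg : g * t = t * g) : ∃ c < 21504, E c = g :=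
  C.cEl_surj (mem_centralizer_singleton_iff.2 hg)

theorem entry_spec {c k g : ℕ} (h : (c, k, g) ∈ invTab) : c < 21504 ∧ g < 21504 ∧ k < 8 ∧ c ≠ 0 ∧
    E g * E (reps.getD k 0) * (E g)⁻¹ = E c ∧ ∀ j < 8, inClass j c = (j == k) := by
  have := List.all_eq_true.1 entries _ h
  simp only [entryOk, Bool.and_eq_true, Nat.blt_eq, beq_iff_eq, Bool.not_eq_true', beq_eq_false_iff_ne,
    List.all_eq_true, List.mem_range] at this
  obtain ⟨⟨⟨⟨⟨⟨hc, hg⟩, hk⟩, he⟩, h0⟩, -⟩, hj⟩ := this
  refine ⟨hc, hg, hk, h0, ?_, hj⟩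
  have hr : reps.getD k 0 < 21504 := by interval_cases k <;> decide
  rw [(E_mul C hg hr).1, he, ← (E_mul C hc hg).1, mul_inv_cancel_right]

theorem exists_entry {c : ℕ} (hc : c < 21504) (h : E c * E c = 1) (h0 : E c ≠ 1) : ∃ k g, (c, k, g) ∈ invTab := by
  have h2 : fMul c c = 0 := (E_eq_one C (E_mul C hc hc).2).1 ((E_mul C hc hc).1 ▸ h)
  have hs : scanOk c = true := by
    rcases Nat.lt_or_ge c 5376 with h | h
    · exact List.all_eq_true.1 scan0 c (by simp [List.mem_range'_1]; omega)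
    rcases Nat.lt_or_ge c 10752 with h | h
    · exact List.all_eq_true.1 scan1 c (by simp [List.mem_range'_1]; omega)
    rcases Nat.lt_or_ge c 16128 with h | h
    · exact List.all_eq_true.1 scan2 c (by simp [List.mem_range'_1]; omega)
    · exact List.all_eq_true.1 scan3 c (by simp [List.mem_range'_1]; omega)
  simp only [scanOk, h2, beq_self_eq_true, Bool.not_true, Bool.false_or, Bool.or_eq_true, beq_iff_eq,
    List.contains_iff_mem, List.mem_map] at hs
  rcases hs with hs | ⟨⟨c', k, g⟩, hm, e⟩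
  · exact absurd ((E_eq_one C hc).2 hs) h0
  · obtain rfl : c' = c := e
    exact ⟨k, g, hm⟩

variable {S : List ℕ} (hS : Fused t a b x y r S)
include hS

theorem conj_entry {c k g : ℕ} (h : (c, k, g) ∈ invTab) : IsConj t (E c) ↔ k ∈ S := by
  obtain ⟨-, -, hk, -, e, -⟩ := entry_spec C h
  rw [← e, ← hS k hk]
  exact ⟨fun h => h.trans (isConj_iff.2 ⟨_, rfl⟩ : IsConj (E (reps.getD k 0)) _).symm,
    fun h => h.trans (isConj_iff.2 ⟨_, rfl⟩)⟩

theorem not_conj {c : ℕ} (hc : c < 21504) (hS8 : ∀ k ∈ S, k < 8) (h : isT S c = false) : ¬ IsConj t (E c) := by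
  intro hconj
  obtain ⟨w, hw⟩ := isConj_iff.1 hconj
  have htt : t * t = 1 := C.frame.tt
  have h2 : E c * E c = 1 := by
    rw [← hw, show w * t * w⁻¹ * (w * t * w⁻¹) = w * (t * t) * w⁻¹ by group, htt]; group
  have h1 : E c ≠ 1 := fun e => C.frame.t_ne (by rw [e] at hconj; exact isConj_one_left.1 hconj)
  obtain ⟨k, g, hm⟩ := exists_entry C hc h2 h1
  have hk := (conj_entry C hS hm).1 hconj
  have hj := (entry_spec C hm).2.2.2.2.2 k (hS8 k hk)
  rw [isT, List.any_eq_false] at h
  exact h k hk (by rw [hj, beq_self_eq_true])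

theorem conj_of_isT {c : ℕ} (hS8 : ∀ k ∈ S, k < 8) (h : isT S c = true) : IsConj t (E c) := by
  obtain ⟨k, hk, hc⟩ := List.any_eq_true.1 h
  obtain ⟨g, hm⟩ := inClass_mem (hS8 k hk) hc
  exact (conj_entry C hS hm).2 hk

omit hS in
/-- The centraliser of a representative in the centraliser of `t`. -/
theorem cent_list {k u : ℕ} {L B : List ℕ} {W : List (ℕ × List (ℕ × ℕ))} (hk : k < 8)
    (h : centOk k u L B W = true) : u < 21504 ∧ incr L = true ∧
    (∀ g, g * t = t * g ∧ g * E u = E u * g ↔ ∃ c ∈ L, E c = g) ∧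
    Nat.card ↥(centralizer ({t} : Set G) ⊓ centralizer ({E u} : Set G)) ≤ L.length ∧
    ∀ e ∈ invTab, bigOk u L.length B W e = true := by
  simp only [centOk, Bool.and_eq_true, beq_iff_eq, List.all_eq_true] at h
  obtain ⟨⟨⟨⟨hu, hcom⟩, hinc⟩, hprod⟩, hbig⟩ := h
  have hu' : u < 21504 := by subst hu; interval_cases k <;> decide
  set K := centralizer ({t} : Set G) ⊓ centralizer ({E u} : Set G) with hK
  set F := invTab.filter fun e => e.2.1 == k with hF
  have hcard : Nat.card ↥K * F.length ≤ 21504 := by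
    have hh := card_mul_length_le (L := centralizer ({t} : Set G)) (K := K) inf_le_left (u := E u)
      (fun g hg => mem_centralizer_singleton_iff.1 hg.2) (F.map fun e => E e.2.2)
      (fun g hg => by obtain ⟨e, -, rfl⟩ := List.mem_map.1 hg; exact C.cEl_mem) (by
        rw [List.map_map]
        have hF' : ∀ e ∈ F, (fun g => g * E u * g⁻¹) (E e.2.2) = E e.1 ∧ e.1 < 21504 := fun e he => by
          obtain ⟨hm, hek⟩ := List.mem_filter.1 he
          obtain ⟨h1, -, -, -, h5, -⟩ := entry_spec C (c := e.1) (k := e.2.1) (g := e.2.2) hm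
          rw [eq_of_beq hek, hu] at h5
          exact ⟨h5, h1⟩
        have hnd : (F.map Prod.fst).Nodup := (incr_nodup tab_incr).sublist (List.filter_sublist.map _)
        have hinj : (F.map fun e => E e.1).Nodup := by
          rw [show (F.map fun e => E e.1) = (F.map Prod.fst).map (fun c => E c) by rw [List.map_map]; rfl]
          refine hnd.map_on fun c hc d hd e => ?_
          obtain ⟨e1, h1, rfl⟩ := List.mem_map.1 hc
          obtain ⟨e2, h2, rfl⟩ := List.mem_map.1 hd
          exact C.cEl_inj (hF' e1 h1).2 (hF' e2 h2).2 e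
        exact (List.map_congr_left fun e he => ((hF' e he).1).symm) ▸ hinj)
    rw [List.length_map, C.cardC] at hh
    exact hh
  have hle : Nat.card ↥K ≤ L.length := by
    rw [List.countP_eq_length_filter, ← hF] at hprod
    rw [← hprod] at hcard
    exact Nat.le_of_mul_le_mul_right hcard (Nat.pos_of_ne_zero fun h => by rw [h, mul_zero] at hprod; omega)
  refine ⟨hu', hinc, ?_, hle, hbig⟩
  have hsub : ∀ c ∈ L, E c ∈ K := fun c hc => ⟨C.cEl_mem, mem_centralizer_singleton_iff.2
    ((com_iff C ((incr_spec hinc).2 c hc) hu').1 (hcom c hc))⟩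
  intro g
  constructor
  · rintro ⟨h1, h2⟩
    by_contra hno
    haveI : Fintype G := Fintype.ofFinite G
    classical
    have hnd : (L.map fun c => E c).Nodup := (incr_nodup hinc).map_on fun c hc d hd e =>
      C.cEl_inj ((incr_spec hinc).2 c hc) ((incr_spec hinc).2 d hd) e
    have hsub2 : (g :: L.map fun c => E c).toFinset ⊆ Finset.univ.filter fun z => z ∈ K := by
      intro z hz
      rw [List.mem_toFinset, List.mem_cons] at hz
      refine Finset.mem_filter.2 ⟨Finset.mem_univ _, ?_⟩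
      rcases hz with rfl | hz
      · exact ⟨mem_centralizer_singleton_iff.2 h1, mem_centralizer_singleton_iff.2 h2⟩
      · obtain ⟨c, hc, rfl⟩ := List.mem_map.1 hz
        exact hsub c hc
    have hcnt := Finset.card_le_card hsub2
    rw [List.toFinset_card_of_nodup (List.nodup_cons.2 ⟨fun h => by
      obtain ⟨c, hc, e⟩ := List.mem_map.1 h; exact hno ⟨c, hc, e⟩, hnd⟩), List.length_cons, List.length_map,
      ← Fintype.card_subtype, ← Nat.card_eq_fintype_card] at hcnt
    omega
  · rintro ⟨c, hc, rfl⟩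
    exact ⟨E_comm_t C c, mem_centralizer_singleton_iff.1 (hsub c hc).2⟩

omit hS in
/-- The common centraliser with a representative. -/
theorem card_cent3 {u : ℕ} {L : List ℕ} (hinc : incr L = true)
    (hL : ∀ g, g * t = t * g ∧ g * E u = E u * g ↔ ∃ c ∈ L, E c = g) {z : ℕ} (hz : z < 21504) :
    Nat.card ↥(cent3 t (E u) (E z)) = cnt L z := by
  classical
  have hlt := (incr_spec hinc).2
  have hset : (cent3 t (E u) (E z) : Set G) = ((L.filter fun g => com g z).map fun c => E c).toFinset := by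
    ext g
    simp only [SetLike.mem_coe, mem_cent3, List.coe_toFinset, Set.mem_setOf_eq, List.mem_map, List.mem_filter]
    constructor
    · rintro ⟨h1, h2, h3⟩
      obtain ⟨c, hc, rfl⟩ := (hL g).1 ⟨h1, h2⟩
      exact ⟨c, ⟨hc, (com_iff C (hlt c hc) hz).2 h3⟩, rfl⟩
    · rintro ⟨c, ⟨hc, hcz⟩, rfl⟩
      exact ⟨E_comm_t C c, ((hL _).2 ⟨c, hc, rfl⟩).2, (com_iff C (hlt c hc) hz).1 hcz⟩
  rw [← SetLike.coe_sort_coe, hset, Nat.card_coe_set_eq, Set.ncard_coe_finset, List.toFinset_card_of_nodup,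
    List.length_map, cnt, List.countP_eq_length_filter]
  exact ((incr_nodup hinc).filter _).map_on fun c hc d hd e =>
    C.cEl_inj (hlt c (List.mem_filter.1 hc).1) (hlt d (List.mem_filter.1 hd).1) e

theorem bound_of_rep (hS8 : ∀ k ∈ S, k < 8) {k u : ℕ} {L B : List ℕ} {W : List (ℕ × List (ℕ × ℕ))} (hk : k < 8)
    (hc : centOk k u L B W = true) (hp : B.all (pairOk S u L) = true) {c : G} (hct : c * t = t * c)
    (huc : E u * c = c * E u) (h2 : c * c = 1) (h1 : c ≠ 1) (hne : E u ≠ c)
    (hfc : ¬ IsConj t c) (hfuc : ¬ IsConj t (E u * c)) :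
    Nat.card ↥(cent3 t (E u) c) < 512 ∧ (128 ≤ Nat.card ↥(cent3 t (E u) c) → ∀ q ∈ cent3 t (E u) c, IsConj t q →
      IsConj t (q * c) → IsConj t (q * E u) ∨ IsConj t (q * E u * c)) := by
  obtain ⟨hu, hinc, hL, hcardK, hbig⟩ := cent_list C hk hc
  obtain ⟨z, hz, rfl⟩ := exists_code C hct
  obtain ⟨kz, gz, hm⟩ := exists_entry C hz h2 h1
  have hb := hbig _ hm
  simp only [bigOk, Bool.or_eq_true, beq_iff_eq, List.contains_iff_mem, List.any_eq_true, Bool.and_eq_true,
    Bool.not_eq_true'] at hb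
  rcases hb with ((hb | hb) | hb) | ⟨⟨c', w⟩, -, hcc, hw⟩
  · exact absurd ((com_iff C hz hu).2 huc.symm) (by rw [hb]; simp)
  · exact absurd (hb ▸ rfl) hne
  · have h := List.all_eq_true.1 hp z hb
    simp only [pairOk, Bool.or_eq_true, Bool.and_eq_true, Nat.blt_eq, List.all_eq_true] at h
    rcases h with (h | h) | ⟨h512, hq⟩
    · exact absurd (conj_of_isT C hS hS8 h) hfc
    · refine absurd ?_ hfuc
      rw [(E_mul C hu hz).1]
      exact conj_of_isT C hS hS8 h
    rw [card_cent3 C hinc hL hz]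
    refine ⟨h512, fun _ q hq' hqt hqc => ?_⟩
    obtain ⟨hq1, hq2, hq3⟩ := mem_cent3.1 hq'
    obtain ⟨n, hn, rfl⟩ := (hL q).1 ⟨hq1, hq2⟩
    have hn' := (incr_spec hinc).2 n hn
    have h' := hq n hn
    simp only [Bool.not_eq_true'] at h'
    rcases h' with (((h' | h') | h') | h') | h'
    · exact absurd ((com_iff C hn' hz).2 hq3) (by rw [h']; simp)
    · exact absurd hqt (not_conj C hS hn' hS8 h')
    · rw [(E_mul C hn' hz).1] at hqc
      exact absurd hqc (not_conj C hS (E_mul C hn' hz).2 hS8 h')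
    · left
      rw [(E_mul C hn' hu).1]
      exact conj_of_isT C hS hS8 h'
    · right
      rw [(E_mul C hn' hu).1, (E_mul C (E_mul C hn' hu).2 hz).1]
      exact conj_of_isT C hS hS8 h'
  · obtain rfl : c' = z := hcc
    simp only [fewOk, Bool.and_eq_true, Nat.blt_eq, List.all_eq_true, beq_iff_eq] at hw
    obtain ⟨⟨hinc', hn⟩, hall⟩ := hw
    have hlt : Nat.card ↥(cent3 t (E u) (E c')) < 128 := by
      have hle := card_mul_length_le (L := centralizer ({t} : Set G) ⊓ centralizer ({E u} : Set G))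
        (K := cent3 t (E u) (E c')) (fun g hg => hg.1) (u := E c')
        (fun g hg => (mem_cent3.1 hg).2.2) (w.map fun p => E p.2)
        (fun g hg => by
          obtain ⟨p, hp', rfl⟩ := List.mem_map.1 hg
          obtain ⟨⟨h3, h4⟩, -⟩ := hall p hp'
          exact ⟨C.cEl_mem, mem_centralizer_singleton_iff.2 ((com_iff C h3 hu).1 h4)⟩) (by
          rw [List.map_map]
          have hval : ∀ p ∈ w, (fun g => g * E c' * g⁻¹) (E p.2) = E p.1 ∧ p.1 < 21504 := fun p hp' => by
            obtain ⟨⟨h3, -⟩, h5⟩ := hall p hp'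
            have h6 := (incr_spec hinc').2 p.1 (List.mem_map_of_mem hp')
            refine ⟨?_, h6⟩
            show E p.2 * E c' * (E p.2)⁻¹ = E p.1
            rw [(E_mul C h3 hz).1, h5, ← (E_mul C h6 h3).1, mul_inv_cancel_right]
          have hinj : (w.map fun p => E p.1).Nodup := by
            rw [show (w.map fun p => E p.1) = (w.map Prod.fst).map (fun c => E c) by rw [List.map_map]; rfl]
            exact (incr_nodup hinc').map_on fun c hc d hd e =>
              C.cEl_inj ((incr_spec hinc').2 c hc) ((incr_spec hinc').2 d hd) e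
          exact (List.map_congr_left fun p hp' => ((hval p hp').1).symm) ▸ hinj)
      rw [List.length_map] at hle
      by_contra h128
      have : 128 * w.length ≤ Nat.card ↥(cent3 t (E u) (E c')) * w.length := Nat.mul_le_mul_right _ (by omega)
      omega
    exact ⟨by omega, fun h => by omega⟩

/-- The local data. -/
theorem genData (hp : patternOk S = true) (hS8 : ∀ k ∈ S, k < 8) :
    GenData t (E 10) (E 21110) (E 2) := by
  have hnum : fMul 10 10 = 0 ∧ fMul 21110 21110 = 0 ∧ fMul 21110 10 = 21116 ∧ fMul 10 21110 = 21116 ∧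
      fMul 2 10 = fMul 10 2 ∧ fMul 4 4 = 0 ∧ fMul 48 48 = 0 ∧
      inV (fMul (fMul (fMul 4 48) 4) 48) = false ∧ cent2.contains 4 = true ∧ cent2.contains 48 = true ∧
      com 4 21110 = true ∧ com 48 21110 = true := by decide +kernel
  obtain ⟨n1, n2, n3, n4, n5, n6, n7, n8, n9, n10, n11, n12⟩ := hnum
  simp only [patternOk, basicOk, Bool.and_eq_true, List.contains_iff_mem, Bool.not_eq_true', List.all_eq_true,
    Bool.or_eq_true] at hp
  obtain ⟨⟨⟨⟨⟨⟨⟨hbasic, hchild⟩, hcover⟩, hp2⟩, hp4⟩, hp5⟩, hp6⟩, hp7⟩ := hp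
  obtain ⟨⟨⟨⟨⟨⟨⟨⟨⟨⟨b0, b1⟩, b3⟩, bu10⟩, btu⟩, bbu⟩, bb⟩, bv⟩, bvu⟩, btv⟩, btvu⟩ := hbasic
  have l10 : (10 : ℕ) < 21504 := by norm_num
  have l2 : (2 : ℕ) < 21504 := by norm_num
  have l64 : (64 : ℕ) < 21504 := by norm_num
  have lv : (21110 : ℕ) < 21504 := by norm_num
  have lw : (21116 : ℕ) < 21504 := by norm_num
  have l4 : (4 : ℕ) < 21504 := by norm_num
  have l48 : (48 : ℕ) < 21504 := by norm_num
  have et := E_top C
  have vu_eq : E 21110 * E 10 = E 21116 := by rw [(E_mul C lv l10).1, n3]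
  have inV_iff : ∀ c < 21504, InV (E 10) (E 21110) (E c) ↔ inV c = true := by
    intro c hc
    simp only [InV, inV, Bool.or_eq_true, beq_iff_eq, or_assoc, E_eq_one C hc, vu_eq]
    have key : ∀ d < 21504, E c = E d ↔ c = d := fun d hd =>
      ⟨fun h => C.cEl_inj hc hd h, fun h => h ▸ rfl⟩
    rw [key 10 l10, key 21110 lv, key 21116 lw]
  obtain ⟨-, hinc, hL, -, -⟩ := cent_list C (k := 2) (by norm_num) cent2_ok
  refine
    { tt := C.frame.tt
      t_ne := C.frame.t_ne
      uu := ?_
      u_ne := ?_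
      ut := E_comm_t C _
      u_free := not_conj C hS l10 hS8 bu10
      tu_free := ?_
      bt := E_comm_t C _
      bu := ?_
      b_conj := conj_of_isT C hS hS8 bb
      bu_conj := ?_
      vv := ?_
      v_ne := ?_
      v_ne_u := ?_
      vt := E_comm_t C _
      vu := ?_
      v_free := not_conj C hS lv hS8 bv
      vu_free := ?_
      tv_conj := ?_
      tvu_conj := ?_
      child := ?_
      bound := ?_
      cardV := ?_
      coverV := ?_
      nonabelianV := ?_ }
  · rw [(E_mul C l10 l10).1, n1, C.cEl_one]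
  · rw [ne_eq, E_eq_one C l10]; norm_num
  · have h := not_conj C hS (E_mul C l64 l10).2 hS8 btu
    rwa [← (E_mul C l64 l10).1, et] at h
  · rw [(E_mul C l2 l10).1, (E_mul C l10 l2).1, n5]
  · rw [(E_mul C l2 l10).1]; exact conj_of_isT C hS hS8 bbu
  · rw [(E_mul C lv lv).1, n2, C.cEl_one]
  · rw [ne_eq, E_eq_one C lv]; norm_num
  · exact fun h => absurd (C.cEl_inj lv l10 h) (by norm_num)
  · rw [(E_mul C lv l10).1, (E_mul C l10 lv).1, n3, n4]
  · rw [vu_eq]; exact not_conj C hS lw hS8 bvu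
  · have h := conj_of_isT C hS hS8 btv
    rwa [← (E_mul C l64 lv).1, et] at h
  · have h := conj_of_isT C hS hS8 btvu
    rwa [← (E_mul C (E_mul C l64 lv).2 l10).1, ← (E_mul C l64 lv).1, et] at h
  · intro z hzt hzu hz2 hz1 hzu' hfz hfzu htz
    obtain ⟨c, hc, rfl⟩ := exists_code C hzt
    obtain ⟨k, g, hm⟩ := exists_entry C hc hz2 hz1
    have h := hchild _ hm
    have e1 := (E_mul C hc l10).1
    have e2 : t * E c = E (fMul 64 c) := by rw [← (E_mul C l64 hc).1, et]
    have e3 := (E_mul C (E_mul C l64 hc).2 l10).1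
    simp only [childOk, Bool.or_eq_true, Bool.and_eq_true, beq_iff_eq, Bool.not_eq_true'] at h
    rcases h with ((((((h | h) | h) | h) | h) | h) | ⟨h, hv⟩) | ⟨h, hn⟩
    · exact absurd ((com_iff C hc l10).2 hzu) (by rw [h]; simp)
    · exact absurd (h ▸ rfl) hzu'
    · exact absurd (by rw [h, et]) hfz
    · exact absurd (conj_of_isT C hS hS8 h) hfz
    · exact absurd (by rw [e1]; exact conj_of_isT C hS hS8 h) hfzu
    · rw [e2] at htz
      exact absurd htz (not_conj C hS (E_mul C l64 hc).2 hS8 h)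
    · left
      refine ⟨by rw [e2, e3]; exact conj_of_isT C hS hS8 h, ?_⟩
      rcases hv with rfl | rfl
      · exact .inl rfl
      · exact .inr vu_eq.symm
    · right
      refine ⟨by rw [e2, e3]; exact not_conj C hS (E_mul C (E_mul C l64 hc).2 l10).2 hS8 h, ?_⟩
      rw [card_cent3 C hinc hL hc]; exact hn
  · intro u c hut hct huc hu2 hc2 hu1 hc1 hne hfu hfc hfuc
    obtain ⟨n, hn, rfl⟩ := exists_code C hut
    obtain ⟨k, g, hm⟩ := exists_entry C hn hu2 hu1
    obtain ⟨-, hg, hk, -, he, -⟩ := entry_spec C hm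
    set w := E g with hw
    have hwt : w * t = t * w := E_comm_t C g
    have hkS : k ∉ S := fun h => hfu ((conj_entry C hS hm).2 h)
    set R := E (reps.getD k 0) with hR
    set d := w⁻¹ * c * w with hd
    have hwt' : w * t * w⁻¹ = t := by rw [hwt, mul_inv_cancel_right]
    have hcd : w * d * w⁻¹ = c := by rw [hd]; group
    have hmap : (cent3 t R d).map (MulAut.conj w).toMonoidHom = cent3 t (E n) c := by
      ext z
      rw [Subgroup.mem_map_equiv, mem_cent3, mem_cent3, MulAut.conj_symm_apply]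
      have key : ∀ s : G, w⁻¹ * z * w * s = s * (w⁻¹ * z * w) ↔ z * (w * s * w⁻¹) = w * s * w⁻¹ * z := by
        intro s
        constructor <;> intro h
        · calc z * (w * s * w⁻¹) = w * (w⁻¹ * z * w * s) * w⁻¹ := by group
            _ = w * (s * (w⁻¹ * z * w)) * w⁻¹ := by rw [h]
            _ = w * s * w⁻¹ * z := by group
        · calc w⁻¹ * z * w * s = w⁻¹ * (z * (w * s * w⁻¹)) * w := by group
            _ = w⁻¹ * (w * s * w⁻¹ * z) * w := by rw [h]
            _ = s * (w⁻¹ * z * w) := by group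
      rw [key, key, key, hwt', he, hcd]
    have hcard : Nat.card ↥(cent3 t (E n) c) = Nat.card ↥(cent3 t R d) := by
      rw [← hmap, Subgroup.card_map_of_injective (MulAut.conj w).injective]
    have hiff : ∀ s : G, IsConj t (w * s * w⁻¹) ↔ IsConj t s := fun s =>
      ⟨fun h => h.trans (isConj_iff.2 ⟨w, rfl⟩ : IsConj s (w * s * w⁻¹)).symm,
        fun h => h.trans (isConj_iff.2 ⟨w, rfl⟩)⟩
    have hdt : d * t = t * d := by
      calc d * t = w⁻¹ * c * (w * t) := by rw [hd]; group
        _ = w⁻¹ * (c * t) * w := by rw [hwt]; group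
        _ = w⁻¹ * t * c * w := by rw [hct]; group
        _ = t * d := by
          rw [(Commute.inv_left (show Commute w t from hwt)).eq, hd]; group
    have hRd : R * d = d * R := by
      apply (MulAut.conj w).injective
      simp only [map_mul, MulAut.conj_apply, he, hcd, huc]
    have hd2 : d * d = 1 := by rw [hd, show w⁻¹ * c * w * (w⁻¹ * c * w) = w⁻¹ * (c * c) * w by group, hc2]; group
    have hd1 : d ≠ 1 := fun h => hc1 (by rw [← hcd, h]; group)
    have hne' : R ≠ d := fun h => hne (by rw [← he, h, hcd])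
    have hfd : ¬ IsConj t d := fun h => hfc (by rw [← hcd, hiff]; exact h)
    have hfRd : ¬ IsConj t (R * d) := fun h => hfuc (by
      rw [← he, ← hcd, show w * R * w⁻¹ * (w * d * w⁻¹) = w * (R * d) * w⁻¹ by group, hiff]; exact h)
    have main : Nat.card ↥(cent3 t R d) < 512 ∧ (128 ≤ Nat.card ↥(cent3 t R d) → ∀ q ∈ cent3 t R d,
        IsConj t q → IsConj t (q * d) → IsConj t (q * R) ∨ IsConj t (q * R * d)) := by
      have all : ∀ i (L B : List ℕ) (W : List (ℕ × List (ℕ × ℕ))), i = k → centOk i (reps.getD k 0) L B W = true →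
          (i ∈ S ∨ ∀ z ∈ B, pairOk S (reps.getD k 0) L z = true) → _ := fun i L B W hi hc hor => by
        subst hi
        exact bound_of_rep C hS hS8 hk hc (List.all_eq_true.2 (hor.resolve_left hkS)) hdt hRd hd2 hd1 hne' hfd hfRd
      interval_cases k
      · exact absurd b0 hkS
      · exact absurd b1 hkS
      · rw [hR]; exact all 2 _ _ _ rfl cent2_ok hp2
      · exact absurd b3 hkS
      · rw [hR]; exact all 4 _ _ _ rfl cent4_ok hp4
      · rw [hR]; exact all 5 _ _ _ rfl cent5_ok hp5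
      · rw [hR]; exact all 6 _ _ _ rfl cent6_ok hp6
      · rw [hR]; exact all 7 _ _ _ rfl cent7_ok hp7
    rw [hcard]
    refine ⟨main.1, fun h128 q hq hqt hqc => ?_⟩
    rw [← hmap] at hq
    obtain ⟨q', hq', rfl⟩ := Subgroup.mem_map.1 hq
    simp only [MulEquiv.coe_toMonoidHom, MulAut.conj_apply] at hqt hqc ⊢
    rw [← hcd, show w * q' * w⁻¹ * (w * d * w⁻¹) = w * (q' * d) * w⁻¹ by group, hiff] at hqc
    rw [← he, ← hcd, show w * q' * w⁻¹ * (w * R * w⁻¹) = w * (q' * R) * w⁻¹ by group,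
      show w * (q' * R) * w⁻¹ * (w * d * w⁻¹) = w * (q' * R * d) * w⁻¹ by group, hiff, hiff]
    exact main.2 h128 q' hq' ((hiff q').1 hqt) hqc
  · rw [card_cent3 C hinc hL lv]; exact eq_of_beq v_ok
  · intro g hg hg2 hgV
    obtain ⟨h1, h2, h3⟩ := mem_cent3.1 hg
    obtain ⟨c, hc', rfl⟩ := (hL g).1 ⟨h1, h2⟩
    have hc := (incr_spec hinc).2 c hc'
    rw [(E_mul C hc hc).1, inV_iff _ (E_mul C hc hc).2] at hg2
    rw [inV_iff c hc] at hgV
    have h := hcover c hc'
    simp only [coverOk, Bool.or_eq_true, Bool.not_eq_true', List.any_eq_true] at h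
    rcases h with ((h | h) | h) | ⟨d, hd, h⟩
    · exact absurd ((com_iff C hc lv).2 h3) (by rw [h]; simp)
    · rw [hg2] at h; simp at h
    · exact absurd h hgV
    · have hd' : d < 21504 ∧ inV d = true := by
        simp only [List.mem_cons, List.not_mem_nil, or_false] at hd
        rcases hd with rfl | rfl | rfl | rfl <;> decide
      exact ⟨E d, (inV_iff d hd'.1).2 hd'.2, by rw [(E_mul C hc hd'.1).1]; exact conj_of_isT C hS hS8 h⟩
  · refine ⟨E 4, mem_cent3.2 ⟨E_comm_t C _, ((hL _).2 ⟨4, List.contains_iff_mem.1 n9, rfl⟩).2,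
      (com_iff C l4 lv).1 n11⟩, E 48, mem_cent3.2 ⟨E_comm_t C _, ((hL _).2 ⟨48, List.contains_iff_mem.1 n10, rfl⟩).2,
      (com_iff C l48 lv).1 n12⟩, .inl ?_, .inl ?_, ?_⟩
    · rw [(E_mul C l4 l4).1, n6, C.cEl_one]
    · rw [(E_mul C l48 l48).1, n7, C.cEl_one]
    · have i4 : (E 4)⁻¹ = E 4 := inv_eq_of_mul_eq_one_right (by rw [(E_mul C l4 l4).1, n6, C.cEl_one])
      have i48 : (E 48)⁻¹ = E 48 := inv_eq_of_mul_eq_one_right (by rw [(E_mul C l48 l48).1, n7, C.cEl_one])
      rw [i4, i48, (E_mul C l4 l48).1, (E_mul C (E_mul C l4 l48).2 l4).1,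
        (E_mul C (E_mul C (E_mul C l4 l48).2 l4).2 l48).1,
        inV_iff _ (E_mul C (E_mul C (E_mul C l4 l48).2 l4).2 l48).2, n8]
      simp

end

end CfsgLib.HeldTri
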