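import Cfsg.Agent.Lib.HeldTri.Generated.Main
import Cfsg.Agent.Lib.HeldTri.Generated.FromCodes
import Cfsg.Agent.Lib.HeldTri.Generated.Codes.Patterns

/-!
A subgroup containing the centraliser and conjugating the representatives as the pattern says is the whole group.
-/

set_option autoImplicit false
set_option linter.unusedSectionVars false
set_option maxRecDepth 100000

namespace CfsgLib.HeldTri

open CfsgLib.HeType CfsgLib.HeType.Cert Gen Subgroup

variable {G : Type*} [Group G] [Finite G] {t : G} {Q : Subgroup G} {x y r : G} {a b : ℕ → G}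

/-- The four possible patterns of the classes fused to the central involution. -/
def pats : List (List ℕ) := [[0, 1, 3, 6], [0, 1, 3, 4, 6], [0, 1, 3, 5, 6], [0, 1, 3, 4, 5, 6]]

theorem pats_ok {S : List ℕ} (h : S ∈ pats) : patternOk S = true ∧ ∀ k ∈ S, k < 8 := by
  simp only [pats, List.mem_cons, List.not_mem_nil, or_false] at h
  rcases h with rfl | rfl | rfl | rfl
  · exact ⟨pat_sl, by decide⟩
  · exact ⟨pat_m24a, by decide⟩
  · exact ⟨pat_m24b, by decide⟩
  · exact ⟨pat_he, by decide⟩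

/-- The subgroup is the whole group. -/
theorem eq_top_of_fused (C : Coords t Q R0 true x y r a b) {S : List ℕ} (hmem : S ∈ pats)
    (hS : Fused t a b x y r S) (H : Subgroup G) (hCH : centralizer ({t} : Set G) ≤ H)
    (hodd : ¬ 2 ∣ (centralizer ({t} : Set G)).index)
    (hT : ∀ k < 8, k ∈ S → ∃ h ∈ H, h * t * h⁻¹ = cEl t a b x y r (reps.getD k 0))
    (hF : ∀ k < 8, k ∉ S → ∃ h ∈ H, h * cEl t a b x y r 10 * h⁻¹ = cEl t a b x y r (reps.getD k 0)) : H = ⊤ := by
  obtain ⟨hp, hS8⟩ := pats_ok hmem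
  have key : ∀ z, z * t = t * z → z * z = 1 → z ≠ 1 → ∃ k < 8, ∃ g ∈ H,
      g * cEl t a b x y r (reps.getD k 0) * g⁻¹ = z ∧ (IsConj t z ↔ k ∈ S) := by
    intro z hz h2 h1
    obtain ⟨c, hc, rfl⟩ := exists_code C hz
    obtain ⟨k, g, hm⟩ := exists_entry C hc h2 h1
    obtain ⟨-, -, hk, -, he, -⟩ := entry_spec C hm
    exact ⟨k, hk, _, hCH C.cEl_mem, he, conj_entry C hS hm⟩
  refine eq_top_of_data (genData C hS hp hS8) H hCH hodd (fun z hz hc => ?_) fun z hz h2 h1 hf => ?_
  · have htt : t * t = 1 := C.frame.tt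
    obtain ⟨w, hw⟩ := isConj_iff.1 hc
    have h2 : z * z = 1 := by rw [← hw, conj_mul_conj, htt]; group
    have h1 : z ≠ 1 := fun e => C.frame.t_ne (by rw [e] at hc; exact isConj_one_left.1 hc)
    obtain ⟨k, hk, g, hg, he, hiff⟩ := key z (mem_centralizer_singleton_iff.1 hz) h2 h1
    obtain ⟨h, hh, e⟩ := hT k hk (hiff.1 hc)
    exact ⟨g * h, H.mul_mem hg hh, by rw [← he, ← e]; group⟩
  · obtain ⟨k, hk, g, hg, he, hiff⟩ := key z hz h2 h1
    obtain ⟨h, hh, e⟩ := hF k hk fun h => hf (hiff.2 h)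
    exact ⟨g * h, H.mul_mem hg hh, by rw [← he, ← e]; group⟩

end CfsgLib.HeldTri
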