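import Cfsg.Agent.Lib.HeldTri.Generated.FromCodes

/-!
The centraliser of the involution has odd index: the central involution is the only involution commuting with the
normal extraspecial subgroup.
-/

set_option autoImplicit false
set_option linter.unusedSectionVars false
set_option maxRecDepth 100000

namespace CfsgLib.HeldTri

open CfsgLib.HeType CfsgLib.HeType.Cert Gen Subgroup

theorem q_central_check : (invTab.all fun e =>
    e.1 == 64 || [1, 2, 4, 8, 16, 32].any fun q => !(com e.1 q)) = true := by decide +kernel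

theorem conj_of_comm' {G : Type*} [Group G] {g a : G} (h : g * a = a * g) : g * a * g⁻¹ = a := by
  rw [h, mul_inv_cancel_right]

variable {G : Type*} [Group G] [Finite G] {t : G} {Q : Subgroup G} {x y r : G} {a b : ℕ → G}

/-- The extraspecial subgroup is normal in the centraliser. -/
theorem qNormal (C : Coords t Q R0 true x y r a b) : (Q.subgroupOf (centralizer ({t} : Set G))).Normal := by
  set K := centralizer ({t} : Set G) with hK
  refine ⟨fun u hu g => ?_⟩
  obtain ⟨c, -, hc⟩ := C.cEl_surj g.2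
  rw [mem_subgroupOf] at hu ⊢
  show (g : G) * u * (g : G)⁻¹ ∈ Q
  have hgen : K ≤ normalizer (Q : Set G) := by
    have hconj : ∀ w : G, (∀ i < 6, w * qEl t a b (2 ^ i) * w⁻¹ ∈ Q) → w * t * w⁻¹ ∈ Q → w ∈ normalizer (Q : Set G) := by
      intro w hw hwt
      refine mem_normalizer_fintype fun v hv => ?_
      have hle : Q ≤ Q.comap (MulAut.conj w).toMonoidHom := by
        intro v hv
        obtain ⟨n, -, rfl⟩ := (C.hQ v).1 hv
        have hg : ∀ i < 3, a i ∈ Q.comap (MulAut.conj w).toMonoidHom ∧ b i ∈ Q.comap (MulAut.conj w).toMonoidHom :=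
          fun i hi => by
            refine ⟨mem_comap.2 ?_, mem_comap.2 ?_⟩
            · show w * a i * w⁻¹ ∈ Q
              have := hw i (by omega)
              interval_cases i <;> simpa [qEl, p3, tB, Nat.testBit] using this
            · show w * b i * w⁻¹ ∈ Q
              have := hw (3 + i) (by omega)
              interval_cases i <;> simpa [qEl, p3, tB, Nat.testBit] using this
        have ht' : t ∈ Q.comap (MulAut.conj w).toMonoidHom := mem_comap.2 hwt
        simp only [qEl, p3, tB]
        refine mul_mem (mul_mem (mul_mem (mul_mem ?_ ?_) ?_) (mul_mem (mul_mem ?_ ?_) ?_)) ?_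
        all_goals split_ifs <;> first | exact one_mem _ | exact ht' | exact (hg _ (by norm_num)).1 | exact (hg _ (by norm_num)).2
      exact mem_comap.1 (hle hv)
    have htQ : t ∈ Q := (C.hQ t).2 ⟨64, by norm_num, by rw [C.frame.el_top]⟩
    rw [hK, ← C.gen]
    refine sup_le le_normalizer ((closure_le _).2 ?_)
    rintro w (rfl | rfl | rfl)
    · refine hconj _ (fun i hi => ?_) (by rwa [conj_of_comm' (C.commute_t C.xC).eq])
      rw [C.conjX i hi]; exact (C.hQ _).2 ⟨_, by interval_cases i <;> decide, rfl⟩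
    · refine hconj _ (fun i hi => ?_) (by rwa [conj_of_comm' (C.commute_t C.yC).eq])
      rw [C.conjY i hi]; exact (C.hQ _).2 ⟨_, by interval_cases i <;> decide, rfl⟩
    · refine hconj _ (fun i hi => ?_) (by rwa [conj_of_comm' (C.commute_t C.rC).eq])
      rw [C.conjR i hi]; exact (C.hQ _).2 ⟨_, by interval_cases i <;> decide, rfl⟩
  exact (mem_normalizer_iff.1 (hgen g.2) _).1 hu

/-- The centraliser of `t` has odd index. -/
theorem odd_index (C : Coords t Q R0 true x y r a b) : ¬ 2 ∣ (centralizer ({t} : Set G)).index := by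
  haveI := Fact.mk Nat.prime_two
  intro hdvd
  set K := centralizer ({t} : Set G) with hK
  obtain ⟨T⟩ : Nonempty (Sylow 2 ↥K) := inferInstance
  set S := (T : Subgroup ↥K).map K.subtype with hS
  have hSK : S ≤ K := map_subtype_le _
  -- the extraspecial subgroup is inside
  haveI hQn : (Q.subgroupOf K).Normal := qNormal C
  have hQS : Q ≤ S := by
    have h2 : IsPGroup 2 ↥(Q.subgroupOf K) :=
      (IsPGroup.of_card (n := 7) (by rw [C.cardQ]; norm_num) : IsPGroup 2 ↥Q).comap_subtype
    have hle : Q.subgroupOf K ≤ (T : Subgroup ↥K) :=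
      le_sup_right.trans (T.3 (T.2.to_sup_of_normal_right h2) le_sup_left).le
    intro v hv
    exact ⟨⟨v, C.hQC hv⟩, hle (mem_subgroupOf.2 hv), rfl⟩
  have hS2 : IsPGroup 2 ↥S := T.2.map _
  obtain ⟨P, hP⟩ := hS2.exists_le_sylow
  have hlt : S < (P : Subgroup G) := by
    refine lt_of_le_of_ne hP fun e => ?_
    refine P.not_dvd_index ?_
    rw [← e, hS, index_map_subtype]
    exact Dvd.dvd.mul_left hdvd _
  haveI : Group.IsNilpotent ↥(P : Subgroup G) := P.2.isNilpotent
  obtain ⟨⟨n, hnP⟩, hn, hnS⟩ := SetLike.exists_of_lt (Group.normalizerCondition_of_isNilpotent (S.subgroupOf (P : Subgroup G))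
    (lt_top_iff_ne_top.2 fun e => hlt.not_ge (subgroupOf_eq_top.1 e)))
  have hnS' : n ∉ S := fun h => hnS (mem_subgroupOf.2 h)
  have hnorm : ∀ v ∈ S, n * v * n⁻¹ ∈ S := fun v hv =>
    mem_subgroupOf.1 ((mem_normalizer_iff.1 hn ⟨v, hP hv⟩).1 (mem_subgroupOf.2 hv))
  have htS : t ∈ S := hQS ((C.hQ t).2 ⟨64, by norm_num, by rw [C.frame.el_top]⟩)
  have htS' : n * t * n⁻¹ ∈ S := hnorm t htS
  have hcomm : ∀ v ∈ S, n * t * n⁻¹ * v = v * (n * t * n⁻¹) := by
    intro v hv
    have hv' : n⁻¹ * v * n ∈ S := by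
      have h := (mem_normalizer_iff.1 hn ⟨n⁻¹ * v * n, mul_mem (mul_mem (inv_mem hnP) (hP hv)) hnP⟩).2
        (mem_subgroupOf.2 (by simpa [mul_assoc] using hv))
      exact mem_subgroupOf.1 h
    have h := mem_centralizer_singleton_iff.1 (hSK hv')
    calc n * t * n⁻¹ * v = n * (t * (n⁻¹ * v * n)) * n⁻¹ := by group
      _ = n * (n⁻¹ * v * n * t) * n⁻¹ := by rw [h]
      _ = v * (n * t * n⁻¹) := by group
  obtain ⟨c, hc, hce⟩ := C.cEl_surj (hSK htS')
  have htt : t * t = 1 := C.frame.tt
  have h2 : n * t * n⁻¹ * (n * t * n⁻¹) = 1 := by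
    rw [show n * t * n⁻¹ * (n * t * n⁻¹) = n * (t * t) * n⁻¹ by group, htt]; group
  obtain ⟨k, g, hm⟩ := exists_entry C hc (by rw [hce]; exact h2) (by rw [hce, ne_eq, conj_eq_one_iff]; exact C.frame.t_ne)
  have h := List.all_eq_true.1 q_central_check _ hm
  simp only [Bool.or_eq_true, beq_iff_eq, List.any_eq_true, Bool.not_eq_true'] at h
  rcases h with rfl | ⟨q, hq, hq'⟩
  · refine hnS' ?_
    rw [E_top C] at hce
    have hnK : n ∈ K := mem_centralizer_singleton_iff.2 (mul_inv_eq_iff_eq_mul.1 hce.symm)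
    have hle : ((P : Subgroup G).subgroupOf K) ≤ (T : Subgroup ↥K) := by
      refine (T.3 (P.2.comap_subtype) fun v hv => mem_subgroupOf.2 (hP ⟨v, hv, rfl⟩)).le
    exact ⟨⟨n, hnK⟩, hle (mem_subgroupOf.2 hnP), rfl⟩
  · have hqQ : cEl t a b x y r q ∈ Q := by
      have : q < 128 := by
        simp only [List.mem_cons, List.not_mem_nil, or_false] at hq; omega
      refine (C.hQ _).2 ⟨q, this, ?_⟩
      simp only [cEl, Nat.mod_eq_of_lt this, Nat.div_eq_of_lt this, lPaths_gen.1, lWord, List.map_nil, List.prod_nil,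
        mul_one]
    have hq2 : q < 21504 := by simp only [List.mem_cons, List.not_mem_nil, or_false] at hq; omega
    have := (com_iff C hc hq2).2
      (by rw [hce]; exact hcomm _ (hQS hqQ))
    rw [this] at hq'
    exact absurd hq' (by simp)

end CfsgLib.HeldTri
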