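import Cfsg.Agent.Lib.HeldTri.Generated.Normal
import Cfsg.Agent.Lib.HeldTri.Generated.FromCodes

/-!
The pattern of the vector stabiliser: the elementary group of order sixteen is normal.
-/

set_option autoImplicit false
set_option linter.unusedSectionVars false
set_option maxRecDepth 100000

namespace CfsgLib.HeldTri

open CfsgLib.HeType CfsgLib.HeType.Cert Gen Subgroup

/-- The codes of the elementary group of order sixteen of `t` and the class of `a 0`. -/
def w1List : List ℕ := [0, 1, 2, 3, 4, 5, 6, 7, 64, 65, 66, 67, 68, 69, 70, 71]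

theorem w1_check : (w1List.all fun c => w1List.all fun d => w1List.contains (fMul c d)) = true ∧
    (w1List.all fun c => fMul c c == 0) = true ∧
    (w1List.all fun c => c == 0 || inClass 0 c || inClass 3 c) = true ∧
    (invTab.all fun e => !(e.2.1 == 0 || e.2.1 == 3) || w1List.contains e.1) = true ∧
    cnt w1List 8 = 8 ∧ fMul 8 8 = 0 ∧ inClass 1 8 = true := by decide +kernel

variable {G : Type*} [Group G] [Finite G] {t : G} {Q : Subgroup G} {x y r : G} {a b : ℕ → G}

/-- The group of these codes. -/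
def wOne (t : G) (a b : ℕ → G) (x y r : G) : Subgroup G :=
  closure {g | ∃ c ∈ w1List, cEl t a b x y r c = g}

theorem w1List_lt : ∀ c ∈ w1List, c < 21504 := by decide

theorem mem_wOne (C : Coords t Q R0 true x y r a b) {g : G} :
    g ∈ wOne t a b x y r ↔ ∃ c ∈ w1List, cEl t a b x y r c = g := by
  refine ⟨fun hg => ?_, fun h => subset_closure h⟩
  let W : Subgroup G :=
    { carrier := {g | ∃ c ∈ w1List, cEl t a b x y r c = g}
      one_mem' := ⟨0, by decide, C.cEl_one⟩
      mul_mem' := by
        rintro _ _ ⟨c, hc, rfl⟩ ⟨d, hd, rfl⟩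
        exact ⟨fMul c d, List.contains_iff_mem.1 (List.all_eq_true.1 (List.all_eq_true.1 w1_check.1 c hc) d hd),
          ((E_mul C (w1List_lt c hc) (w1List_lt d hd)).1).symm⟩
      inv_mem' := by
        rintro _ ⟨c, hc, rfl⟩
        refine ⟨c, hc, (inv_eq_of_mul_eq_one_right ?_).symm⟩
        rw [(E_mul C (w1List_lt c hc) (w1List_lt c hc)).1,
          eq_of_beq (List.all_eq_true.1 w1_check.2.1 c hc), C.cEl_one] }
  exact (closure_le (K := W)).2 (fun _ h => h) hg

theorem card_wOne_inf (C : Coords t Q R0 true x y r a b) {z : ℕ} (hz : z < 21504) :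
    Nat.card ↥(wOne t a b x y r ⊓ centralizer ({cEl t a b x y r z} : Set G)) = cnt w1List z := by
  classical
  have hnd : w1List.Nodup := by decide
  have hset : (wOne t a b x y r ⊓ centralizer ({cEl t a b x y r z} : Set G) : Subgroup G) =
      (((w1List.filter fun c => com c z).map fun c => cEl t a b x y r c).toFinset : Set G) := by
    ext g
    simp only [SetLike.mem_coe, mem_inf, mem_wOne C, mem_centralizer_singleton_iff, List.coe_toFinset,
      Set.mem_setOf_eq, List.mem_map, List.mem_filter]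
    constructor
    · rintro ⟨⟨c, hc, rfl⟩, h⟩
      exact ⟨c, ⟨hc, (com_iff C (w1List_lt c hc) hz).2 h⟩, rfl⟩
    · rintro ⟨c, ⟨hc, h⟩, rfl⟩
      exact ⟨⟨c, hc, rfl⟩, (com_iff C (w1List_lt c hc) hz).1 h⟩
  rw [← SetLike.coe_sort_coe, hset, Nat.card_coe_set_eq, Set.ncard_coe_finset, List.toFinset_card_of_nodup,
    List.length_map, cnt, List.countP_eq_length_filter]
  exact (hnd.filter _).map_on fun c hc d hd e =>
    C.cEl_inj (w1List_lt c (List.mem_filter.1 hc).1) (w1List_lt d (List.mem_filter.1 hd).1) e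

/-- The elementary group is normal. -/
theorem normalizer_wOne_eq_top (C : Coords t Q R0 true x y r a b) (hS : Fused t a b x y r [0, 3]) {s : G}
    (hs : ∀ w ∈ wOne t a b x y r, s * w * s⁻¹ ∈ wOne t a b x y r) (hst : s * t * s⁻¹ = cEl t a b x y r 1) :
    normalizer (wOne t a b x y r : Set G) = ⊤ := by
  have hS8 : ∀ k ∈ [0, 3], k < 8 := by decide
  set W := wOne t a b x y r with hW
  obtain ⟨-, h2, h3, h4, h5, h6, h7⟩ := w1_check
  have htt : t * t = 1 := C.frame.tt
  have hcl : ∀ z, z * t = t * z → IsConj t z → z ∈ W := by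
    intro z hz hc
    obtain ⟨c, hc', rfl⟩ := exists_code C hz
    obtain ⟨w, hw⟩ := isConj_iff.1 hc
    obtain ⟨k, g, hm⟩ := exists_entry C hc' (by rw [← hw, conj_mul_conj, htt]; group)
      (fun e => C.frame.t_ne (by rw [e] at hc; exact isConj_one_left.1 hc))
    have hk := (conj_entry C hS hm).1 hc
    have := List.all_eq_true.1 h4 _ hm
    simp only [List.mem_cons, List.not_mem_nil, or_false] at hk
    rcases hk with rfl | rfl <;>
      exact (mem_wOne C).2 ⟨c, by simpa [List.contains_iff_mem] using this, rfl⟩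
  have hconj : ∀ z ∈ W, z ≠ 1 → IsConj t z ∧ z * t = t * z ∧
      ∃ k < 8, ∃ g, (k = 0 ∨ k = 3) ∧ cEl t a b x y r g * cEl t a b x y r (reps.getD k 0) * (cEl t a b x y r g)⁻¹ = z := by
    intro z hz hz1
    obtain ⟨c, hc, rfl⟩ := (mem_wOne C).1 hz
    have h := List.all_eq_true.1 h3 c hc
    simp only [Bool.or_eq_true, beq_iff_eq] at h
    refine ⟨?_, E_comm_t C c, ?_⟩
    · rcases h with (h | h) | h
      · exact absurd (h ▸ C.cEl_one) hz1
      · exact conj_of_isT C hS hS8 (by simp [isT, h])
      · exact conj_of_isT C hS hS8 (by simp [isT, h])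
    · rcases h with (h | h) | h
      · exact absurd (h ▸ C.cEl_one) hz1
      · obtain ⟨g, hm⟩ := inClass_mem (by norm_num) h
        exact ⟨0, by norm_num, g, .inl rfl, (entry_spec C hm).2.2.2.2.1⟩
      · obtain ⟨g, hm⟩ := inClass_mem (by norm_num) h
        exact ⟨3, by norm_num, g, .inr rfl, (entry_spec C hm).2.2.2.2.1⟩
  have hCt : ∀ g : G, g * t = t * g → g ∈ normalizer (W : Set G) := fun g hg =>
    mem_normalizer_fintype fun w hw => by
      by_cases hw1 : w = 1
      · simp [hw1]
      obtain ⟨hc, hwt, -⟩ := hconj w hw hw1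
      refine hcl _ ?_ ((isConj_conj_iff g).2 hc)
      have := comm_conj g hwt
      rwa [conj_of_comm hg] at this
  have hsN : s ∈ normalizer (W : Set G) := mem_normalizer_fintype hs
  have htr : ∀ z ∈ W, z ≠ 1 → ∃ k ∈ normalizer (W : Set G), k * t * k⁻¹ = z := by
    intro z hz hz1
    obtain ⟨-, -, k, -, g, hk, e⟩ := hconj z hz hz1
    have hg := hCt _ (E_comm_t C g)
    rcases hk with rfl | rfl
    · refine ⟨_, mul_mem hg hsN, ?_⟩
      rw [show cEl t a b x y r g * s * t * (cEl t a b x y r g * s)⁻¹ =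
        cEl t a b x y r g * (s * t * s⁻¹) * (cEl t a b x y r g)⁻¹ by group, hst]
      exact e
    · refine ⟨_, hg, ?_⟩
      rw [show reps.getD 3 0 = 64 from rfl, E_top C] at e
      exact e
  have hy : (8 : ℕ) < 21504 := by norm_num
  have hcard : Nat.card ↥W = 16 := by
    have h := card_wOne_inf C (z := 0) (by norm_num)
    rw [C.cEl_one] at h
    have : centralizer ({(1 : G)} : Set G) = ⊤ :=
      (eq_top_iff' _).2 fun g => mem_centralizer_singleton_iff.2 (by rw [mul_one, one_mul])
    rw [this, inf_top_eq] at h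
    rw [hW, h]
    decide +kernel
  refine normalizer_eq_top htt htr hcl ?_ C.frame.t_ne hcard (y := cEl t a b x y r 8) ?_ (E_comm_t C 8) ?_ ?_
  · exact (mem_wOne C).2 ⟨64, by decide, E_top C⟩
  · rw [(E_mul C hy hy).1, h6, C.cEl_one]
  · intro hc
    obtain ⟨g, hm⟩ := inClass_mem (by norm_num) h7
    exact absurd ((conj_entry C hS hm).1 hc) (by decide)
  · rw [card_wOne_inf C hy, h5]

end CfsgLib.HeldTri
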