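import Mathlib

/-!
The facts inside the centraliser of the involution which show that the subgroup generated is the whole group.
-/

set_option autoImplicit false

namespace CfsgLib.HeldTri

variable {G : Type*} [Group G]

/-- Membership of the four group generated by `u` and `v`. -/
def InV (u v x : G) : Prop := x = 1 ∨ x = u ∨ x = v ∨ x = v * u

/-- The common centraliser of three elements. -/
def cent3 (a b c : G) : Subgroup G :=
  Subgroup.centralizer ({a} : Set G) ⊓ Subgroup.centralizer ({b} : Set G) ⊓ Subgroup.centralizer ({c} : Set G)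

theorem mem_cent3 {a b c x : G} : x ∈ cent3 a b c ↔ x * a = a * x ∧ x * b = b * x ∧ x * c = c * x := by
  simp only [cent3, Subgroup.mem_inf, Subgroup.mem_centralizer_singleton_iff, and_assoc]

/-- The local data: `t` central involution, `u` of the other class with `t * u` not conjugate to `t`, `b` with `b`
and `b * u` conjugate to `t`, and the four group of `u` and `v`. -/
structure GenData (t u v b : G) : Prop where
  tt : t * t = 1
  t_ne : t ≠ 1
  uu : u * u = 1
  u_ne : u ≠ 1
  ut : u * t = t * u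
  u_free : ¬ IsConj t u
  tu_free : ¬ IsConj t (t * u)
  bt : b * t = t * b
  bu : b * u = u * b
  b_conj : IsConj t b
  bu_conj : IsConj t (b * u)
  vv : v * v = 1
  v_ne : v ≠ 1
  v_ne_u : v ≠ u
  vt : v * t = t * v
  vu : v * u = u * v
  v_free : ¬ IsConj t v
  vu_free : ¬ IsConj t (v * u)
  tv_conj : IsConj t (t * v)
  tvu_conj : IsConj t (t * v * u)
  child : ∀ z, z * t = t * z → z * u = u * z → z * z = 1 → z ≠ 1 → z ≠ u → ¬ IsConj t z → ¬ IsConj t (z * u) →
    IsConj t (t * z) → (IsConj t (t * z * u) ∧ (z = v ∨ z = v * u)) ∨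
      (¬ IsConj t (t * z * u) ∧ Nat.card ↥(cent3 t u z) = 64)
  bound : ∀ a c, a * t = t * a → c * t = t * c → a * c = c * a → a * a = 1 → c * c = 1 → a ≠ 1 → c ≠ 1 → a ≠ c →
    ¬ IsConj t a → ¬ IsConj t c → ¬ IsConj t (a * c) → Nat.card ↥(cent3 t a c) < 512 ∧
      (128 ≤ Nat.card ↥(cent3 t a c) → ∀ q ∈ cent3 t a c, IsConj t q → IsConj t (q * c) →
        IsConj t (q * a) ∨ IsConj t (q * a * c))
  cardV : Nat.card ↥(cent3 t u v) = 256
  coverV : ∀ r ∈ cent3 t u v, InV u v (r * r) → ¬ InV u v r → ∃ x, InV u v x ∧ IsConj t (r * x)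
  nonabelianV : ∃ s ∈ cent3 t u v, ∃ q ∈ cent3 t u v,
    InV u v (s * s) ∧ InV u v (q * q) ∧ ¬ InV u v (s * q * s⁻¹ * q⁻¹)

end CfsgLib.HeldTri
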