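import Mathlib

/-!
The product of two involutions: either they are conjugate, or an involution centralises both.
-/

set_option autoImplicit false

namespace CfsgLib.HeldTri

variable {G : Type*} [Group G]

theorem mul_pow_swap {a b : G} (ha : a * a = 1) (hb : b * b = 1) (n : ℕ) :
    a * (a * b) ^ n = ((a * b) ^ n)⁻¹ * a := by
  have h : a * (a * b) * a⁻¹ = (a * b)⁻¹ := by
    have ea : a⁻¹ = a := inv_eq_of_mul_eq_one_right ha
    have eb : b⁻¹ = b := inv_eq_of_mul_eq_one_right hb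
    rw [mul_inv_rev, ea, eb, ← mul_assoc, ha, one_mul]
  calc a * (a * b) ^ n = (a * (a * b) * a⁻¹) ^ n * a := by rw [conj_pow]; group
    _ = _ := by rw [h, inv_pow]

/-- The element `a (ab) ^ n` is conjugate to `a` or `b`, by a power of `ab`. -/
theorem conj_mul_pow {a b : G} (ha : a * a = 1) (hb : b * b = 1) (n : ℕ) :
    ∃ l ∈ Subgroup.zpowers (a * b), l * a * l⁻¹ = a * (a * b) ^ n ∨ l * b * l⁻¹ = a * (a * b) ^ n := by
  obtain ⟨i, hi | hi⟩ := Nat.even_or_odd' n <;> subst hi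
  · refine ⟨((a * b) ^ i)⁻¹, inv_mem (pow_mem (Subgroup.mem_zpowers _) _), .inl ?_⟩
    rw [inv_inv, ← mul_pow_swap ha hb i, two_mul, pow_add, mul_assoc]
  · refine ⟨((a * b) ^ i)⁻¹, inv_mem (pow_mem (Subgroup.mem_zpowers _) _), .inr ?_⟩
    have e : b = a * (a * b) := by rw [← mul_assoc, ha, one_mul]
    calc ((a * b) ^ i)⁻¹ * b * ((a * b) ^ i)⁻¹⁻¹
        = ((a * b) ^ i)⁻¹ * (a * (a * b)) * (a * b) ^ i := by rw [inv_inv, ← e]
      _ = ((a * b) ^ i)⁻¹ * a * ((a * b) * (a * b) ^ i) := by simp only [mul_assoc]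
      _ = _ := by
          rw [← mul_pow_swap ha hb i, ← pow_succ', mul_assoc, ← pow_add]
          congr 2
          omega

/-- Two involutions are conjugate under their product, or an involution of their product centralises both. -/
theorem conj_or_central [Finite G] {a b : G} (ha : a * a = 1) (hb : b * b = 1) :
    (∃ l ∈ Subgroup.zpowers (a * b), l * a * l⁻¹ = b) ∨
    ∃ z ∈ Subgroup.zpowers (a * b), z * z = 1 ∧ z ≠ 1 ∧ z * a = a * z ∧ z * b = b * z ∧
      ∃ l ∈ Subgroup.zpowers (a * b), l * a * l⁻¹ = a * z ∨ l * b * l⁻¹ = a * z := by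
  have e : b = a * (a * b) := by rw [← mul_assoc, ha, one_mul]
  obtain ⟨m, hm | hm⟩ := Nat.even_or_odd' (orderOf (a * b))
  · right
    have hpos := orderOf_pos (a * b)
    have hz2 : (a * b) ^ m * (a * b) ^ m = 1 := by rw [← pow_add, ← two_mul, ← hm, pow_orderOf_eq_one]
    have hza : (a * b) ^ m * a = a * (a * b) ^ m := by
      rw [mul_pow_swap ha hb, inv_eq_of_mul_eq_one_right hz2]
    refine ⟨(a * b) ^ m, pow_mem (Subgroup.mem_zpowers _) _, hz2, ?_, hza, ?_, conj_mul_pow ha hb m⟩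
    · exact pow_ne_one_of_lt_orderOf (by omega) (by omega)
    · nth_rw 2 [e]
      nth_rw 3 [e]
      rw [← mul_assoc, hza, mul_assoc, mul_assoc, ← pow_succ, ← pow_succ']
  · left
    refine ⟨((a * b) ^ (m + 1))⁻¹, inv_mem (pow_mem (Subgroup.mem_zpowers _) _), ?_⟩
    rw [inv_inv, ← mul_pow_swap ha hb, mul_assoc, ← pow_add]
    rw [show m + 1 + (m + 1) = orderOf (a * b) + 1 by omega, pow_succ, pow_orderOf_eq_one, one_mul, ← mul_assoc, ha,
      one_mul]

/-- A conjugate of a conjugate. -/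
theorem conj_back (l x : G) : l⁻¹ * (l * x * l⁻¹) * l = x := by group

end CfsgLib.HeldTri
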