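import Cfsg.Agent.Lib.HeldTri.Generated.Dihedral
import Cfsg.Agent.Lib.Solvable.KegelWielandt

/-!
A strongly embedded subgroup in which the centraliser of an involution is a 2-group with two non-commuting
involutions is the whole group: counting inverted elements factorises it, so that it would be solvable.
-/

set_option autoImplicit false

namespace CfsgLib.HeldTri

open Subgroup

/-- A nontrivial solvable group has a nontrivial abelian normal subgroup. -/
theorem exists_abelian_normal {G : Type*} [Group G] [Group.IsSolvable G] [Nontrivial G] :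
    ∃ N : Subgroup G, N.Normal ∧ N ≠ ⊥ ∧ ∀ a ∈ N, ∀ b ∈ N, a * b = b * a := by
  classical
  have hex : ∃ n, derivedSeries G n = ⊥ := Group.IsSolvable.solvable
  obtain ⟨n, hn⟩ : ∃ n, Nat.find hex = n + 1 := by
    refine ⟨Nat.find hex - 1, (Nat.succ_pred_eq_of_ne_zero fun h => ?_).symm⟩
    have := Nat.find_spec hex
    rw [h, derivedSeries_zero] at this
    exact top_ne_bot this
  refine ⟨derivedSeries G n, derivedSeries_normal G n, Nat.find_min hex (by omega), fun a ha b hb => ?_⟩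
  have h := Nat.find_spec hex
  rw [hn, derivedSeries_succ, eq_bot_iff] at h
  exact commutatorElement_eq_one_iff_mul_comm.1 (mem_bot.1 (h (commutator_mem_commutator ha hb)))

theorem embedded_eq_top {L : Type*} [Group L] [Finite L] (K : Subgroup L) {z s q : L}
    (hzK : z ∈ K) (hz : z * z = 1) (hz1 : z ≠ 1)
    (hone : ∀ x ∈ K, x * x = 1 → x ≠ 1 → ∀ g, g⁻¹ * x * g ∈ K → g ∈ K)
    (hS : IsPGroup 2 ↥(K ⊓ centralizer ({z} : Set L)))
    (hs : s ∈ K) (hq : q ∈ K) (hsz : s * z = z * s) (hqz : q * z = z * q) (hs2 : s * s = 1) (hq2 : q * q = 1) (hsq : s * q ≠ q * s) : K = ⊤ := by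
  classical
  haveI := Fact.mk Nat.prime_two
  by_contra hne
  obtain ⟨g₀, hg₀⟩ : ∃ g, g ∉ K := by
    by_contra h
    simp only [not_exists, not_not] at h
    exact hne (eq_top_iff.2 fun g _ => h g)
  have hcomm : ∀ x ∈ K, x * x = 1 → x ≠ 1 → ∀ g, g * x = x * g → g ∈ K := fun x hx hx2 hx1 g hg =>
    hone x hx hx2 hx1 g (by rwa [mul_assoc, ← hg, inv_mul_cancel_left])
  -- one class of involutions
  have hconj : ∀ y ∈ K, y * y = 1 → y ≠ 1 → ∃ k ∈ K, k * z * k⁻¹ = y := by
    intro y hy hy2 hy1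
    suffices ∃ l : L, l * z * l⁻¹ = y by
      obtain ⟨l, hl⟩ := this
      refine ⟨l, ?_, hl⟩
      exact hone y hy hy2 hy1 l (by rw [← hl, conj_back]; exact hzK)
    by_contra hno
    have hy' : g₀ * y * g₀⁻¹ * (g₀ * y * g₀⁻¹) = 1 := by
      rw [show g₀ * y * g₀⁻¹ * (g₀ * y * g₀⁻¹) = g₀ * (y * y) * g₀⁻¹ by group, hy2]; group
    rcases conj_or_central hz hy' with ⟨l, -, hl⟩ | ⟨r, -, hr2, hr1, hrz, hry, -⟩
    · exact hno ⟨g₀⁻¹ * l, by rw [← conj_back g₀ y, ← hl]; group⟩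
    · have hrK : r ∈ K := hcomm z hzK hz hz1 r hrz
      refine hg₀ (hone r hrK hr2 hr1 g₀ (hcomm y hy hy2 hy1 _ ?_))
      calc g₀⁻¹ * r * g₀ * y = g₀⁻¹ * (r * (g₀ * y * g₀⁻¹)) * g₀ := by group
        _ = g₀⁻¹ * (g₀ * y * g₀⁻¹ * r) * g₀ := by rw [hry]
        _ = y * (g₀⁻¹ * r * g₀) := by group
  -- the number of involutions of the subgroup
  haveI : Fintype L := Fintype.ofFinite L
  set I : Finset L := Finset.univ.filter fun x => x ∈ K ∧ x * x = 1 ∧ x ≠ 1 with hI
  set C := centralizer ({z} : Set L) with hC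
  have hIcard : Nat.card ↥K = I.card * Nat.card ↥(K ⊓ C) := by
    letI : MulAction ↥K L := MulAction.compHom L (MulAut.conj.comp K.subtype)
    have hsm : ∀ (g : ↥K) (a : L), g • a = (g : L) * a * (g : L)⁻¹ := fun g a => rfl
    have horb : MulAction.orbit ↥K z = (I : Set L) := by
      ext a
      simp only [hI, Finset.coe_filter, Finset.mem_univ, true_and, Set.mem_setOf_eq]
      constructor
      · rintro ⟨g, rfl⟩
        show _ ∈ K ∧ _
        simp only [hsm]
        refine ⟨K.mul_mem (K.mul_mem g.2 hzK) (K.inv_mem g.2), ?_, fun h => hz1 ?_⟩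
        · rw [show (g : L) * z * (g : L)⁻¹ * ((g : L) * z * (g : L)⁻¹) = g * (z * z) * (g : L)⁻¹ by group, hz]
          group
        · rwa [mul_inv_eq_one, mul_eq_left] at h
      · rintro ⟨ha, ha2, ha1⟩
        obtain ⟨k, hk, e⟩ := hconj a ha ha2 ha1
        exact ⟨⟨k, hk⟩, e⟩
    have hst : MulAction.stabilizer ↥K z = (K ⊓ C).subgroupOf K := by
      ext g
      rw [MulAction.mem_stabilizer_iff, hsm, mem_subgroupOf, mem_inf, hC, mem_centralizer_singleton_iff,
        mul_inv_eq_iff_eq_mul]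
      exact ⟨fun h => ⟨g.2, h⟩, fun h => h.2⟩
    have h := Nat.card_congr (MulAction.orbitProdStabilizerEquivGroup ↥K z)
    rw [Nat.card_prod, horb, hst, Nat.card_congr (subgroupOfEquivOfLe inf_le_left).toEquiv,
      Nat.card_coe_set_eq, Set.ncard_coe_finset] at h
    exact h.symm
  -- a coset with many involutions
  let base : L ⧸ K := QuotientGroup.mk 1
  let f : (L ⧸ K) × L → L := fun p => p.1.out * p.2 * p.1.out⁻¹
  set P := (Finset.univ.erase base) ×ˢ I with hP
  have hout : ∀ c : L ⧸ K, c ≠ base → c.out ∉ K := fun c hc h => hc <| by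
    rw [← Quotient.out_eq c]
    exact (QuotientGroup.eq.2 (by simpa using h)).symm
  have hIK : ∀ x ∈ I, x ∈ K ∧ x * x = 1 ∧ x ≠ 1 := fun x hx => (Finset.mem_filter.1 hx).2
  have hf : Set.InjOn f (P : Set ((L ⧸ K) × L)) := by
    rintro ⟨c, x⟩ hcx ⟨d, y⟩ hdy h
    simp only [hP, Finset.coe_product, Set.mem_prod, Finset.mem_coe] at hcx hdy
    obtain ⟨hxK, hx2, hx1⟩ := hIK x hcx.2
    have hcd : c = d := by
      rw [← Quotient.out_eq c, ← Quotient.out_eq d]
      refine QuotientGroup.eq.2 (hone x hxK hx2 hx1 _ ?_)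
      have e : (c.out⁻¹ * d.out)⁻¹ * x * (c.out⁻¹ * d.out) = y := by
        calc (c.out⁻¹ * d.out)⁻¹ * x * (c.out⁻¹ * d.out) = d.out⁻¹ * f (c, x) * d.out := by simp only [f]; group
          _ = d.out⁻¹ * f (d, y) * d.out := by rw [h]
          _ = y := by simp only [f]; group
      rw [e]
      exact (hIK y hdy.2).1
    subst hcd
    exact Prod.ext rfl (mul_left_cancel (mul_right_cancel h))
  have hkey : ∀ p ∈ P, f p ∉ K := by
    rintro ⟨c, x⟩ hp h
    simp only [hP, Finset.mem_product, Finset.mem_erase] at hp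
    obtain ⟨hxK, hx2, hx1⟩ := hIK x hp.2
    refine hout c hp.1.1 ?_
    have := hone x hxK hx2 hx1 c.out⁻¹ (by rwa [inv_inv])
    exact (inv_mem_iff).1 this
  let π : (L ⧸ K) × L → L ⧸ K := fun p => QuotientGroup.mk (f p)
  have hmaps : ∀ p ∈ P, π p ∈ Finset.univ.erase base := fun p hp => by
    refine Finset.mem_erase.2 ⟨fun h => hkey p hp ?_, Finset.mem_univ _⟩
    simpa using QuotientGroup.eq.1 h.symm
  have hnonempty : (Finset.univ.erase base).Nonempty :=
    ⟨QuotientGroup.mk g₀, Finset.mem_erase.2 ⟨fun h => hg₀ (by simpa using QuotientGroup.eq.1 h.symm),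
      Finset.mem_univ _⟩⟩
  obtain ⟨c, hc, hle⟩ := Finset.exists_le_card_fiber_of_mul_le_card_of_maps_to (n := I.card) hmaps hnonempty
    (by rw [hP, Finset.card_product])
  set F := P.filter fun p => π p = c with hF
  obtain ⟨p₀, hp₀⟩ : F.Nonempty := Finset.card_pos.1 (lt_of_lt_of_le
    (Finset.card_pos.2 ⟨z, Finset.mem_filter.2 ⟨Finset.mem_univ _, hzK, hz, hz1⟩⟩) hle)
  have hinvol : ∀ p ∈ P, f p * f p = 1 := by
    rintro ⟨d, x⟩ hp
    simp only [hP, Finset.mem_product] at hp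
    simp only [f]
    rw [show d.out * x * d.out⁻¹ * (d.out * x * d.out⁻¹) = d.out * (x * x) * d.out⁻¹ by group, (hIK x hp.2).2.1]
    group
  set w := f p₀ with hw
  have hwP := (Finset.mem_filter.1 hp₀)
  clear_value w
  have hw2 : w * w = 1 := hw ▸ hinvol p₀ hwP.1
  have hwK : w ∉ K := hw ▸ hkey p₀ hwP.1
  have hwi : w⁻¹ = w := inv_eq_of_mul_eq_one_right hw2
  let D : Subgroup L := K ⊓ K.comap (MulAut.conj w).toMonoidHom
  have hJ : ∀ p ∈ F, w * f p ∈ D ∧ w * (w * f p) * w⁻¹ = (w * f p)⁻¹ := by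
    intro p hp
    have hp' := Finset.mem_filter.1 hp
    have h2 := hinvol p hp'.1
    have hk : w * f p ∈ K := by
      have := QuotientGroup.eq.1 (hwP.2.trans hp'.2.symm)
      rwa [← hw, hwi] at this
    have hinv : w * (w * f p) * w⁻¹ = (w * f p)⁻¹ := by
      rw [hwi, mul_inv_rev, inv_eq_of_mul_eq_one_right h2, hwi, ← mul_assoc, hw2, one_mul]
    refine ⟨mem_inf.2 ⟨hk, mem_comap.2 ?_⟩, hinv⟩
    show w * (w * f p) * w⁻¹ ∈ K
    rw [hinv]
    exact K.inv_mem hk
  have hDodd : Nat.Coprime (Nat.card ↥D) 2 := by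
    refine ((Nat.prime_two.coprime_iff_not_dvd).2 fun h => ?_).symm
    obtain ⟨⟨x, hx⟩, hord⟩ := exists_prime_orderOf_dvd_card' 2 h
    rw [orderOf_mk] at hord
    have hx2 : x * x = 1 := by rw [← pow_two, ← hord, pow_orderOf_eq_one]
    have hx1 : x ≠ 1 := fun e => by rw [e, orderOf_one] at hord; omega
    exact hwK (hone x hx.1 hx2 hx1 w (by rw [hwi]; simpa [hwi] using mem_comap.1 hx.2))
  have hDle : Nat.card ↥D ∣ I.card := by
    obtain ⟨a, ha⟩ := (IsPGroup.iff_card (p := 2)).1 hS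
    have h : Nat.card ↥D ∣ I.card * 2 ^ a := by
      rw [← ha, ← hIcard]
      exact card_dvd_of_le (inf_le_left : D ≤ K)
    exact (Nat.Coprime.pow_right a hDodd).dvd_of_dvd_mul_right h
  have hIpos : 0 < I.card := Finset.card_pos.2 ⟨z, Finset.mem_filter.2 ⟨Finset.mem_univ _, hzK, hz, hz1⟩⟩
  set J := F.image fun p => w * f p with hJdef
  have hJcard : J.card = F.card := Finset.card_image_of_injOn fun p hp p' hp' h =>
    hf (Finset.mem_filter.1 hp).1 (Finset.mem_filter.1 hp').1 (mul_left_cancel h)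
  have hJD : J = Finset.univ.filter fun d => d ∈ D := by
    refine Finset.eq_of_subset_of_card_le (fun d hd => ?_) ?_
    · obtain ⟨p, hp, rfl⟩ := Finset.mem_image.1 hd
      exact Finset.mem_filter.2 ⟨Finset.mem_univ _, (hJ p hp).1⟩
    · rw [show (Finset.univ.filter fun d => d ∈ D).card = Nat.card ↥D by
        rw [Nat.card_eq_fintype_card]; exact (Fintype.card_subtype _).symm]
      exact (Nat.le_of_dvd hIpos hDle).trans (hle.trans_eq hJcard.symm)
  have hDinv : ∀ d ∈ D, w * d * w⁻¹ = d⁻¹ := fun d hd => by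
    have : d ∈ J := hJD ▸ Finset.mem_filter.2 ⟨Finset.mem_univ _, hd⟩
    obtain ⟨p, hp, rfl⟩ := Finset.mem_image.1 this
    exact (hJ p hp).2
  have hDab : ∀ d ∈ D, ∀ e ∈ D, d * e = e * d := fun d hd e he => by
    apply inv_injective
    rw [← hDinv _ (D.mul_mem hd he), mul_inv_rev, ← hDinv d hd, ← hDinv e he]
    group
  have hDcard : Nat.card ↥D = I.card := by
    refine le_antisymm (Nat.le_of_dvd hIpos hDle) ?_
    rw [Nat.card_eq_fintype_card, Fintype.card_subtype, ← hJD, hJcard]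
    exact hle
  -- the factorisation and the contradiction
  set A := (K ⊓ C).subgroupOf K with hA
  set B := D.subgroupOf K with hB
  have cA : Nat.card ↥A = Nat.card ↥(K ⊓ C) := Nat.card_congr (subgroupOfEquivOfLe inf_le_left).toEquiv
  have cB : Nat.card ↥B = Nat.card ↥D := Nat.card_congr (subgroupOfEquivOfLe inf_le_left).toEquiv
  have hdis : Disjoint A B := by
    obtain ⟨a, ha⟩ := (IsPGroup.iff_card (p := 2)).1 hS
    refine disjoint_iff.2 (inf_eq_bot_of_coprime ?_)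
    rw [cA, cB, ha]
    exact (Nat.Coprime.pow_right a hDodd).symm
  have hfac : ∀ g : ↥K, ∃ a ∈ A, ∃ b ∈ B, g = a * b := by
    intro g
    obtain ⟨⟨a, b⟩, hab⟩ := ((Fintype.bijective_iff_injective_and_card _).2
      ⟨mul_injective_of_disjoint hdis, by
        rw [← Nat.card_eq_fintype_card, ← Nat.card_eq_fintype_card, Nat.card_prod, cA, cB, hDcard, hIcard, mul_comm]⟩).2 g
    exact ⟨a, a.2, b, b.2, hab.symm⟩
  haveI : Group.IsSolvable ↥K := CfsgLib.Solvable.isSolvable_of_nilpotent_mul (A := A) (B := B)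
    (IsPGroup.isNilpotent (p := 2) (hS.comap_subtype))
    (letI : CommGroup ↥B := { mul_comm := fun a b => Subtype.ext (Subtype.ext (hDab _ a.2 _ b.2)) }; inferInstance) hfac
  haveI : Nontrivial ↥K := ⟨⟨⟨z, hzK⟩, 1, fun h => hz1 (congrArg Subtype.val h)⟩⟩
  obtain ⟨N, hN, hN1, hNab⟩ := exists_abelian_normal (G := ↥K)
  by_cases h2 : 2 ∣ Nat.card ↥N
  · obtain ⟨⟨⟨y, hyK⟩, hyN⟩, hord⟩ := exists_prime_orderOf_dvd_card' 2 h2
    rw [orderOf_mk, orderOf_mk] at hord
    have hy2 : y * y = 1 := by rw [← pow_two, ← hord, pow_orderOf_eq_one]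
    have hy1 : y ≠ 1 := fun e => by rw [e, orderOf_one] at hord; omega
    have hall : ∀ x (hx : x ∈ K), x * x = 1 → (⟨x, hx⟩ : ↥K) ∈ N := by
      intro x hx hx2
      by_cases hx1 : x = 1
      · subst hx1; exact N.one_mem
      obtain ⟨k, hk, ek⟩ := hconj x hx hx2 hx1
      obtain ⟨j, hj, ej⟩ := hconj y hyK hy2 hy1
      have := hN.conj_mem _ hyN ⟨k * j⁻¹, K.mul_mem hk (K.inv_mem hj)⟩
      convert this using 1
      refine Subtype.ext ?_
      simp only [Subgroup.coe_mul, InvMemClass.coe_inv, ← ek, ← ej]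
      group
    exact hsq (congrArg Subtype.val (hNab _ (hall s hs hs2) _ (hall q hq hq2)))
  · have hodd : ∀ c : ↥K, c ∈ N → ∀ a, c ^ 2 ^ a = 1 → c = 1 := by
      intro c hc a h
      have h1 : orderOf c ∣ 2 ^ a := orderOf_dvd_of_pow_eq_one h
      have h3 : orderOf c ∣ Nat.card ↥N := orderOf_mk c hc ▸ orderOf_dvd_natCard (⟨c, hc⟩ : ↥N)
      exact orderOf_eq_one_iff.1 (Nat.dvd_one.1
        ((Nat.Coprime.pow_left a ((Nat.prime_two.coprime_iff_not_dvd).2 h2)).gcd_eq_one ▸ Nat.dvd_gcd h1 h3))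
    have hinvert : ∀ x (hx : x ∈ K), x * x = 1 → x ≠ 1 → ∀ c ∈ N, (⟨x, hx⟩ : ↥K) * c * ⟨x, hx⟩⁻¹ = c⁻¹ := by
      intro x hx hx2 hx1 c hc
      set X : ↥K := ⟨x, hx⟩
      have hX : X * X = 1 := Subtype.ext hx2
      have hc' := hN.conj_mem c hc X
      obtain ⟨k, hk, e⟩ := hconj x hx hx2 hx1
      set d := c * (X * c * X⁻¹) with hd
      have hdX : X * d * X⁻¹ = d := by
        calc X * d * X⁻¹ = X * c * X⁻¹ * ((X * X) * c * (X * X)⁻¹) := by rw [hd]; group
          _ = X * c * X⁻¹ * c := by rw [hX]; group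
          _ = d := by rw [hd, hNab _ hc' _ hc]
      obtain ⟨a, ha⟩ := (IsPGroup.iff_card (p := 2)).1 hS
      set d' := (⟨k, hk⟩ : ↥K)⁻¹ * d * ⟨k, hk⟩ with hd'
      have hd'N : d' ∈ N := hN.conj_mem' _ (N.mul_mem hc hc') ⟨k, hk⟩
      have hd'C : (d' : L) ∈ K ⊓ C := by
        refine mem_inf.2 ⟨d'.2, mem_centralizer_singleton_iff.2 ?_⟩
        have h1 := congrArg Subtype.val hdX
        simp only [hd', Subgroup.coe_mul, InvMemClass.coe_inv, X] at h1 ⊢
        rw [mul_inv_eq_iff_eq_mul, ← e] at h1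
        calc k⁻¹ * (d : L) * k * z = k⁻¹ * ((d : L) * (k * z * k⁻¹)) * k := by group
          _ = k⁻¹ * (k * z * k⁻¹ * (d : L)) * k := by rw [h1]
          _ = z * (k⁻¹ * (d : L) * k) := by group
      have hpow : (d' : L) ^ 2 ^ a = 1 := by
        have h0 := pow_card_eq_one' (x := (⟨_, hd'C⟩ : ↥(K ⊓ C)))
        rw [ha] at h0
        exact congrArg Subtype.val h0
      have := hodd d' hd'N a (Subtype.ext (by rw [SubmonoidClass.coe_pow]; exact hpow))
      rw [hd', mul_eq_one_iff_eq_inv, mul_eq_left] at this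
      exact eq_inv_of_mul_eq_one_right this
    obtain ⟨c, hc, hc1⟩ := (ne_bot_iff_exists_ne_one.1 hN1) |> fun ⟨c, h⟩ => (⟨c.1, c.2, fun e => h (Subtype.ext e)⟩ : ∃ c, c ∈ N ∧ c ≠ 1)
    have hne' : s ≠ 1 := fun e => hsq (by simp [e])
    have hne'' : q ≠ 1 := fun e => hsq (by simp [e])
    have hsqK := K.mul_mem hs hq
    -- the product centralises the subgroup
    have hcen : (⟨s * q, hsqK⟩ : ↥K) * c = c * ⟨s * q, hsqK⟩ := by
      have e1 := hinvert q hq hq2 hne'' c hc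
      have e2 := hinvert s hs hs2 hne' c⁻¹ (N.inv_mem hc)
      rw [inv_inv] at e2
      rw [← e1, mul_inv_eq_iff_eq_mul] at e2
      refine Subtype.ext ?_
      have := congrArg Subtype.val e2
      simp only [Subgroup.coe_mul, InvMemClass.coe_inv] at this ⊢
      calc s * q * (c : L) = s * (q * c * q⁻¹) * q := by group
        _ = _ := by rw [this]; group
    obtain ⟨a, ha⟩ := (IsPGroup.iff_card (p := 2)).1 hS
    have hmem : s * q ∈ K ⊓ C := mem_inf.2 ⟨hsqK, mem_centralizer_singleton_iff.2 (by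
      rw [mul_assoc, hqz, ← mul_assoc, hsz, mul_assoc])⟩
    have hpow : (s * q) ^ 2 ^ a = 1 := by
      have h0 := pow_card_eq_one' (x := (⟨_, hmem⟩ : ↥(K ⊓ C)))
      rw [ha] at h0
      exact congrArg Subtype.val h0
    obtain ⟨j, -, hj⟩ := (Nat.dvd_prime_pow Nat.prime_two).1 (orderOf_dvd_of_pow_eq_one hpow)
    have hj0 : j ≠ 0 := fun h => hsq <| by
      rw [h, pow_zero, orderOf_eq_one_iff] at hj
      rw [eq_inv_of_mul_eq_one_left hj, mul_inv_cancel, inv_mul_cancel]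
    obtain ⟨i, rfl⟩ := Nat.exists_eq_succ_of_ne_zero hj0
    set y := (s * q) ^ 2 ^ i with hy
    have hy2 : y * y = 1 := by rw [hy, ← pow_add, ← two_mul, ← pow_succ', ← hj, pow_orderOf_eq_one]
    have hy1 : y ≠ 1 := pow_ne_one_of_lt_orderOf (by positivity) (by
      rw [hj]; exact Nat.pow_lt_pow_right (by norm_num) (Nat.lt_succ_self i))
    have hyc : (⟨y, K.pow_mem hsqK _⟩ : ↥K) * c = c * ⟨y, K.pow_mem hsqK _⟩ := by
      have := Commute.pow_left (hcen : Commute _ c) (2 ^ i)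
      simpa [hy, SubmonoidClass.mk_pow] using this.eq
    have e := hinvert y (K.pow_mem hsqK _) hy2 hy1 c hc
    rw [hyc, mul_inv_cancel_right] at e
    exact hc1 (hodd c hc 1 (by rw [pow_one, pow_two]; nth_rw 1 [e]; rw [inv_mul_cancel]))

end CfsgLib.HeldTri
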