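import Cfsg.Agent.Lib.HeldTri.Generated.Data
import Cfsg.Agent.Lib.HeldTri.Generated.Embedded

/-!
A subgroup containing the centraliser of the involution, controlling its fusion, and with one further class of
involutions, is the whole group.
-/

set_option autoImplicit false

namespace CfsgLib.HeldTri

open Subgroup

variable {G : Type*} [Group G]

theorem conj_mul_conj (g a b : G) : g * a * g⁻¹ * (g * b * g⁻¹) = g * (a * b) * g⁻¹ := by group

theorem comm_conj (g : G) {a b : G} (h : a * b = b * a) :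
    g * a * g⁻¹ * (g * b * g⁻¹) = g * b * g⁻¹ * (g * a * g⁻¹) := by
  rw [conj_mul_conj, conj_mul_conj, h]

theorem conj_of_comm {g a : G} (h : g * a = a * g) : g * a * g⁻¹ = a := by rw [h, mul_inv_cancel_right]

theorem isConj_conj_iff {t a : G} (g : G) : IsConj t (g * a * g⁻¹) ↔ IsConj t a :=
  ⟨fun h => h.trans (isConj_iff.2 ⟨g, rfl⟩ : IsConj a (g * a * g⁻¹)).symm,
    fun h => h.trans (isConj_iff.2 ⟨g, rfl⟩)⟩

theorem isPGroup_zpowers_four {a : G} (h : a ^ 4 = 1) : IsPGroup 2 ↥(zpowers a) := fun x => ⟨2, by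
  obtain ⟨i, hi⟩ := mem_zpowers_iff.1 x.2
  refine Subtype.ext ?_
  rw [SubmonoidClass.coe_pow, ← hi, OneMemClass.coe_one, ← zpow_natCast, ← zpow_mul, mul_comm, zpow_mul,
    zpow_natCast, show (2 : ℕ) ^ 2 = 4 by norm_num, h, one_zpow]⟩

theorem isPGroup_zpowers {a : G} (h : a * a = 1) : IsPGroup 2 ↥(zpowers a) :=
  isPGroup_zpowers_four (by rw [show a ^ 4 = a * a * (a * a) by rw [show 4 = 2 + 2 from rfl, pow_add, pow_two], h, one_mul])

section

variable {t u v b : G} [Finite G] (D : GenData t u v b) (H : Subgroup G)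
  (hCH : centralizer ({t} : Set G) ≤ H) (hodd : ¬ 2 ∣ (centralizer ({t} : Set G)).index)
  (hT : ∀ x ∈ centralizer ({t} : Set G), IsConj t x → ∃ h ∈ H, h * t * h⁻¹ = x)

include hCH hodd in
/-- A 2-subgroup is moved into the centraliser. -/
theorem exists_conj_mem {P : Subgroup G} (hP : IsPGroup 2 ↥P) (hPH : P ≤ H) :
    ∃ h ∈ H, ∀ x ∈ P, h * x * h⁻¹ * t = t * (h * x * h⁻¹) := by
  haveI := Fact.mk Nat.prime_two
  obtain ⟨T⟩ : Nonempty (Sylow 2 ↥(centralizer ({t} : Set G))) := inferInstance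
  set S := (T : Subgroup ↥(centralizer ({t} : Set G))).map (centralizer ({t} : Set G)).subtype with hS
  have hi : ¬ 2 ∣ S.index := by
    rw [hS, index_map_subtype]
    exact fun h => (Nat.prime_two.dvd_mul.1 h).elim T.not_dvd_index hodd
  have hiH : ¬ 2 ∣ (S.subgroupOf H).index := fun h =>
    hi (h.trans (relIndex_dvd_index_of_le ((map_subtype_le _).trans hCH)))
  have h1 : IsPGroup 2 ↥(S.subgroupOf H) := IsPGroup.comap_subtype (T.2.map _)
  let Q : Sylow 2 ↥H := h1.toSylow hiH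
  obtain ⟨R, hR⟩ := (IsPGroup.comap_subtype (K := H) hP).exists_le_sylow
  obtain ⟨k, hk⟩ := MulAction.exists_smul_eq ↥H R Q
  refine ⟨k, k.2, fun x hx => ?_⟩
  have hm : (⟨x, hPH hx⟩ : ↥H) ∈ (R : Subgroup ↥H) := hR (mem_subgroupOf.2 hx)
  have h2 : k * ⟨x, hPH hx⟩ * k⁻¹ ∈ (Q : Subgroup ↥H) := by
    rw [← hk, Sylow.coe_subgroup_smul]
    exact Subgroup.smul_mem_pointwise_smul _ (MulAut.conj k) _ hm
  obtain ⟨y, -, hy⟩ := mem_map.1 (mem_subgroupOf.1 (show k * ⟨x, hPH hx⟩ * k⁻¹ ∈ S.subgroupOf H from h2))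
  have := mem_centralizer_singleton_iff.1 y.2
  simp only [subtype_apply, Subgroup.coe_mul, InvMemClass.coe_inv] at hy
  rwa [hy] at this

include hCH hodd hT

theorem single_t (ht : t * t = 1) {g : G} (hg : g * t * g⁻¹ ∈ H) : g ∈ H := by
  obtain ⟨h, hh, hc⟩ := exists_conj_mem H hCH hodd (isPGroup_zpowers (a := g * t * g⁻¹)
    (by rw [conj_mul_conj, ht]; group)) (zpowers_le.2 hg)
  have e : h * (g * t * g⁻¹) * h⁻¹ = h * g * t * (h * g)⁻¹ := by group
  have hC := hc _ (mem_zpowers _)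
  rw [e] at hC
  obtain ⟨k, hk, hkx⟩ := hT _ (mem_centralizer_singleton_iff.2 hC) (isConj_iff.2 ⟨h * g, rfl⟩)
  have hcom : k⁻¹ * (h * g) ∈ centralizer ({t} : Set G) := mem_centralizer_singleton_iff.2 (by
    calc k⁻¹ * (h * g) * t = k⁻¹ * (h * g * t * (h * g)⁻¹) * (h * g) := by group
      _ = k⁻¹ * (k * t * k⁻¹) * (h * g) := by rw [hkx]
      _ = t * (k⁻¹ * (h * g)) := by group)
  have := H.mul_mem (H.mul_mem (H.inv_mem hh) hk) (hCH hcom)
  rwa [show h⁻¹ * k * (k⁻¹ * (h * g)) = g by group] at this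

theorem single_conj (ht : t * t = 1) {x : G} (hx : x ∈ H) (hc : IsConj t x) {g : G} (hg : g⁻¹ * x * g ∈ H) :
    g ∈ H := by
  obtain ⟨k, rfl⟩ := isConj_iff.1 hc
  have hk := single_t H hCH hodd hT ht hx
  have h2 : g⁻¹ * k ∈ H := single_t H hCH hodd hT ht (by
    rwa [show g⁻¹ * k * t * (g⁻¹ * k)⁻¹ = g⁻¹ * (k * t * k⁻¹) * g by group])
  simpa [mul_assoc] using H.mul_mem hk (H.inv_mem h2)

theorem centralizer_conj_le (ht : t * t = 1) {x : G} (hx : x ∈ H) (hc : IsConj t x) {g : G}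
    (hg : g * x = x * g) : g ∈ H :=
  single_conj H hCH hodd hT ht hx hc (by rwa [mul_assoc, ← hg, inv_mul_cancel_left])

include D in
theorem cent_uv_le : centralizer ({u} : Set G) ⊓ centralizer ({v} : Set G) ≤ H := by
  haveI := Fact.mk Nat.prime_two
  set L := centralizer ({u} : Set G) ⊓ centralizer ({v} : Set G) with hL
  have hLu : ∀ x : ↥L, (x : G) * u = u * x := fun x => mem_centralizer_singleton_iff.1 x.2.1
  have hLv : ∀ x : ↥L, (x : G) * v = v * x := fun x => mem_centralizer_singleton_iff.1 x.2.2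
  have memL : ∀ {x : G}, x * u = u * x → x * v = v * x → x ∈ L := fun h1 h2 =>
    ⟨mem_centralizer_singleton_iff.2 h1, mem_centralizer_singleton_iff.2 h2⟩
  have tH : t ∈ H := hCH (mem_centralizer_singleton_iff.2 rfl)
  have uH : u ∈ H := hCH (mem_centralizer_singleton_iff.2 D.ut)
  have vH : v ∈ H := hCH (mem_centralizer_singleton_iff.2 D.vt)
  have sym : ∀ {x : G}, InV u v x → x * x = 1 ∧ x ∈ H := by
    rintro x (rfl | rfl | rfl | rfl)
    · exact ⟨one_mul 1, H.one_mem⟩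
    · exact ⟨D.uu, uH⟩
    · exact ⟨D.vv, vH⟩
    · exact ⟨by rw [mul_assoc, ← mul_assoc u, ← D.vu, mul_assoc, D.uu, mul_one, D.vv], H.mul_mem vH uH⟩
  have commV : ∀ {x : G}, InV u v x → ∀ g : G, g * u = u * g → g * v = v * g → g * x = x * g := by
    rintro x (rfl | rfl | rfl | rfl) g h1 h2
    · rw [one_mul, mul_one]
    · exact h1
    · exact h2
    · exact (Commute.mul_right (h2 : Commute g v) (h1 : Commute g u)).eq
  have e1 : u * v = v * u := D.vu.symm
  have e2 : ∀ x, u * (u * x) = x := fun x => by rw [← mul_assoc, D.uu, one_mul]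
  have e3 : ∀ x, v * (v * x) = x := fun x => by rw [← mul_assoc, D.vv, one_mul]
  have e4 : ∀ x, u * (v * x) = v * (u * x) := fun x => by rw [← mul_assoc, e1, mul_assoc]
  have mulV : ∀ {x y : G}, InV u v x → InV u v y → InV u v (x * y) := by
    rintro x y (rfl | rfl | rfl | rfl) (rfl | rfl | rfl | rfl) <;>
      simp only [InV, mul_assoc, one_mul, mul_one, D.uu, D.vv, e1, e2, e3, e4, true_or, or_true]
  let V : Subgroup ↥L :=
    { carrier := {x | InV u v (x : G)}
      mul_mem' := fun ha hb => mulV ha hb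
      one_mem' := Or.inl rfl
      inv_mem' := fun {x} hx => by
        show InV u v ((x : G)⁻¹)
        rwa [inv_eq_of_mul_eq_one_right (sym hx).1] }
  haveI : V.Normal := ⟨fun x hx g => by
    show InV u v ((g : G) * x * (g : G)⁻¹)
    rwa [conj_of_comm (commV hx g (hLu g) (hLv g))]⟩
  set S := cent3 t u v with hS
  have hSH : S ≤ H := fun x hx => hCH hx.1.1
  have hS2 : IsPGroup 2 ↥S := IsPGroup.of_card (n := 8) (by rw [hS, D.cardV]; norm_num)
  have tS : t ∈ S := mem_cent3.2 ⟨rfl, D.ut.symm, D.vt.symm⟩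
  have uS : u ∈ S := mem_cent3.2 ⟨D.ut, rfl, D.vu.symm⟩
  have vS : v ∈ S := mem_cent3.2 ⟨D.vt, D.vu, rfl⟩
  -- the common centraliser with `t` is a Sylow 2-subgroup
  have hmax : ∀ P : Subgroup G, IsPGroup 2 ↥P → S ≤ P → P ≤ H ⊓ L → P ≤ S := by
    intro P hP hSP hPL
    by_contra hne
    obtain ⟨n, hn⟩ := IsPGroup.iff_card.1 hP
    have hlt : 256 < Nat.card ↥P := by
      rw [← D.cardV, ← hS]
      exact lt_of_le_of_ne (card_le_of_le hSP) fun h => hne (eq_of_le_of_card_ge hSP h.ge).ge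
    have h512 : 512 ≤ Nat.card ↥P := by
      rw [hn] at hlt ⊢
      have := (Nat.pow_lt_pow_iff_right (by norm_num : 1 < 2)).1 (show 2 ^ 8 < 2 ^ n by norm_num; exact hlt)
      exact le_trans (by norm_num) (Nat.pow_le_pow_right (by norm_num) (show 9 ≤ n by omega))
    obtain ⟨h, hh, hc⟩ := exists_conj_mem H hCH hodd hP (hPL.trans inf_le_left)
    have hP' : P.map (MulAut.conj h).toMonoidHom ≤ cent3 t (h * u * h⁻¹) (h * v * h⁻¹) := by
      rintro _ ⟨x, hx, rfl⟩
      exact mem_cent3.2 ⟨hc x hx, comm_conj h (hLu ⟨x, (hPL hx).2⟩), comm_conj h (hLv ⟨x, (hPL hx).2⟩)⟩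
    have hb := (D.bound (h * u * h⁻¹) (h * v * h⁻¹) (hc u (hSP uS)) (hc v (hSP vS)) (comm_conj h e1)
      (by rw [conj_mul_conj, D.uu]; group) (by rw [conj_mul_conj, D.vv]; group)
      (fun e => D.u_ne (conj_eq_one_iff.1 e)) (fun e => D.v_ne (conj_eq_one_iff.1 e))
      (fun e => D.v_ne_u (mul_left_cancel (mul_right_cancel e)).symm)
      (fun e => D.u_free ((isConj_conj_iff h).1 e)) (fun e => D.v_free ((isConj_conj_iff h).1 e))
      (fun e => D.vu_free (by rw [conj_mul_conj, e1, isConj_conj_iff] at e; exact e))).1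
    have := card_le_of_le hP'
    rw [card_map_of_injective (MulAut.conj h).injective] at this
    omega
  have hcover : ∀ r ∈ H, r ∈ L → InV u v (r * r) → ¬ InV u v r → ∃ x, InV u v x ∧ IsConj t (r * x) := by
    intro r hrH hrL hr2 hr
    have hrp : IsPGroup 2 ↥(zpowers r) := isPGroup_zpowers_four (by
      rw [show r ^ 4 = r * r * (r * r) by rw [show 4 = 2 + 2 from rfl, pow_add, pow_two], (sym hr2).1])
    obtain ⟨R, hR⟩ := (IsPGroup.comap_subtype (K := H ⊓ L) hrp).exists_le_sylow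
    obtain ⟨Q, hQ⟩ := (IsPGroup.comap_subtype (K := H ⊓ L) hS2).exists_le_sylow
    obtain ⟨k, hk⟩ := MulAction.exists_smul_eq ↥(H ⊓ L) R Q
    have hm : k * ⟨r, hrH, hrL⟩ * k⁻¹ ∈ (Q : Subgroup ↥(H ⊓ L)) := by
      rw [← hk, Sylow.coe_subgroup_smul]
      exact Subgroup.smul_mem_pointwise_smul _ (MulAut.conj k) _ (hR (mem_subgroupOf.2 (mem_zpowers r)))
    have hQS : (Q : Subgroup ↥(H ⊓ L)).map (H ⊓ L).subtype ≤ S :=
      hmax _ (Q.2.map _) (fun x hx => ⟨⟨x, hSH hx, memL (mem_cent3.1 hx).2.1 (mem_cent3.1 hx).2.2⟩,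
        hQ (mem_subgroupOf.2 hx), rfl⟩) (map_subtype_le _)
    have hkS : (k : G) * r * (k : G)⁻¹ ∈ S := hQS (mem_map.2 ⟨_, hm, rfl⟩)
    have hku : ∀ {x}, InV u v x → (k : G) * x * (k : G)⁻¹ = x := fun hx =>
      conj_of_comm (commV hx _ (hLu ⟨k, k.2.2⟩) (hLv ⟨k, k.2.2⟩))
    obtain ⟨x, hx, hxc⟩ := D.coverV _ hkS (by rw [conj_mul_conj, hku hr2]; exact hr2) fun h => hr (by
      have e := hku h
      rw [mul_left_cancel (mul_right_cancel e)] at h
      exact h)
    refine ⟨x, hx, (isConj_conj_iff (k : G)).1 ?_⟩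
    rwa [← conj_mul_conj, hku hx]
  -- the quotient
  have tL : t ∈ L := memL D.ut.symm D.vt.symm
  set π := QuotientGroup.mk' V with hπ
  have hπeq : ∀ a c : ↥L, π a = π c → ∃ x : ↥L, InV u v (x : G) ∧ c = a * x := fun a c h => by
    rw [hπ, QuotientGroup.mk'_apply, QuotientGroup.mk'_apply, QuotientGroup.eq] at h
    exact ⟨a⁻¹ * c, h, (mul_inv_cancel_left a c).symm⟩
  set K := (H.subgroupOf L).map π with hK
  have hmemK : ∀ a : ↥L, π a ∈ K → (a : G) ∈ H := fun a ha => by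
    obtain ⟨c, hc, e⟩ := mem_map.1 ha
    obtain ⟨x, hx, rfl⟩ := hπeq c a e
    exact H.mul_mem (mem_subgroupOf.1 hc) (sym hx).2
  have hπ1 : ∀ a : ↥L, π a = 1 ↔ InV u v (a : G) := fun a => QuotientGroup.eq_one_iff a
  obtain ⟨s, hs, q, hq, hs2, hq2, hsq⟩ := D.nonabelianV
  have sL : s ∈ L := memL (mem_cent3.1 hs).2.1 (mem_cent3.1 hs).2.2
  have qL : q ∈ L := memL (mem_cent3.1 hq).2.1 (mem_cent3.1 hq).2.2
  have htop := embedded_eq_top K (z := π ⟨t, tL⟩) (s := π ⟨s, sL⟩) (q := π ⟨q, qL⟩)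
    (mem_map_of_mem _ (mem_subgroupOf.2 tH))
    (by rw [← map_mul, hπ1]; exact .inl D.tt)
    (by
      rw [ne_eq, hπ1]
      rintro (h | h | h | h)
      · exact D.t_ne h
      · exact D.u_free (h ▸ IsConj.refl t)
      · exact D.v_free (h ▸ IsConj.refl t)
      · exact D.vu_free (h ▸ IsConj.refl t))
    ?_ ?_ (mem_map_of_mem _ (mem_subgroupOf.2 (hSH hs))) (mem_map_of_mem _ (mem_subgroupOf.2 (hSH hq)))
    (by rw [← map_mul, ← map_mul]; exact congrArg π (Subtype.ext (mem_cent3.1 hs).1))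
    (by rw [← map_mul, ← map_mul]; exact congrArg π (Subtype.ext (mem_cent3.1 hq).1))
    (by rw [← map_mul, hπ1]; exact hs2) (by rw [← map_mul, hπ1]; exact hq2) ?_
  · intro x hx
    obtain ⟨c, -, e⟩ := mem_map.1 (htop ▸ mem_top (π ⟨x, hx⟩))
    exact hmemK _ (e ▸ (htop ▸ mem_top _ : π c ∈ K))
  · rintro _ ⟨r, hr, rfl⟩ hr2 hr1 g
    obtain ⟨g, rfl⟩ := QuotientGroup.mk'_surjective V g
    intro hg
    rw [← map_mul, hπ1] at hr2
    rw [ne_eq, hπ1] at hr1
    rw [← map_inv, ← map_mul, ← map_mul] at hg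
    obtain ⟨x, hx, hy⟩ := hcover r (mem_subgroupOf.1 hr) r.2 hr2 hr1
    refine mem_map_of_mem _ (mem_subgroupOf.2 (single_conj H hCH hodd hT D.tt
      (H.mul_mem (mem_subgroupOf.1 hr) (sym hx).2) hy ?_))
    have e : (g : G)⁻¹ * ((r : G) * x) * g = (g : G)⁻¹ * r * g * x := by
      rw [mul_assoc, mul_assoc, ← commV hx g (hLu g) (hLv g), ← mul_assoc, ← mul_assoc]
    rw [e]
    exact H.mul_mem (hmemK _ hg) (sym hx).2
  · refine (hS2.comap_subtype (K := L) |>.map π).to_le ?_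
    rintro _ ⟨⟨l, hl, rfl⟩, hlz⟩
    refine mem_map_of_mem _ (mem_subgroupOf.2 ?_)
    have hlz' := mem_centralizer_singleton_iff.1 hlz
    rw [← map_mul, ← map_mul] at hlz'
    obtain ⟨x, hx, e⟩ := hπeq _ _ hlz'.symm
    have e' : (l : G) * t = t * l * x := congrArg Subtype.val e
    have hlx := commV hx l (hLu l) (hLv l)
    have e'' : (l : G) * t * (l : G)⁻¹ = t * x := by
      rw [e', mul_assoc t, hlx, ← mul_assoc, mul_inv_cancel_right]
    have hlu : (l : G) * (t * u) * (l : G)⁻¹ = t * x * u := by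
      rw [← conj_mul_conj, e'', conj_of_comm (hLu l)]
    have key : IsConj t (t * x * u) → False := fun h => D.tu_free (by
      rw [← hlu, isConj_conj_iff] at h
      exact h)
    rcases hx with h | h | h | h <;> rw [h] at e' e'' key
    · rw [mul_one] at e''
      exact mem_cent3.2 ⟨mul_inv_eq_iff_eq_mul.1 e'', hLu l, hLv l⟩
    · exact (D.tu_free (by rw [← e'', isConj_conj_iff])).elim
    · exact (key D.tvu_conj).elim
    · exact (key (by rw [← mul_assoc, mul_assoc, D.uu, mul_one]; exact D.tv_conj)).elim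
  · intro h
    have h' : π (⟨s, sL⟩ * ⟨q, qL⟩ * ⟨s, sL⟩⁻¹ * ⟨q, qL⟩⁻¹) = 1 := by
      rw [map_mul, map_mul, map_mul, h, map_inv, map_inv, mul_inv_cancel_right, mul_inv_cancel]
    exact hsq ((hπ1 _).1 h')

include D in
theorem cent_u_le : centralizer ({u} : Set G) ≤ H := by
  haveI := Fact.mk Nat.prime_two
  intro w hw
  by_contra hwH
  have hwu : w * u = u * w := mem_centralizer_singleton_iff.1 hw
  have uH : u ∈ H := hCH (mem_centralizer_singleton_iff.2 D.ut)
  have bH : b ∈ H := hCH (mem_centralizer_singleton_iff.2 D.bt)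
  have wu' : w⁻¹ * u * w = u := by rw [mul_assoc, ← hwu, inv_mul_cancel_left]
  have hno : ∀ x ∈ H, w⁻¹ * x * w ∈ H → ¬ IsConj t x := fun x hx h hc =>
    hwH (single_conj H hCH hodd hT D.tt hx hc h)
  set p := w * b * w⁻¹ with hp
  have hbb : b * b = 1 := by
    obtain ⟨c, hc⟩ := isConj_iff.1 D.b_conj
    rw [← hc, conj_mul_conj, D.tt]; group
  have hpp : p * p = 1 := by rw [hp, conj_mul_conj, hbb]; group
  have hpu : p * u = u * p := by
    have := comm_conj w D.bu
    rwa [conj_of_comm hwu] at this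
  have hpc : IsConj t p := (isConj_conj_iff w).2 D.b_conj
  have hpuc : IsConj t (p * u) := by
    rw [← conj_of_comm hwu, hp, conj_mul_conj, isConj_conj_iff]; exact D.bu_conj
  have hpH : p ∉ H := fun h => hwH <| (inv_mem_iff).1
    (single_conj H hCH hodd hT D.tt bH D.b_conj (g := w⁻¹) (by rwa [inv_inv]))
  have hDc : ∀ l ∈ zpowers (t * p), ∀ c : G, c * t = t * c → c * p = p * c → l * c = c * l := by
    intro l hl c h1 h2
    obtain ⟨i, rfl⟩ := mem_zpowers_iff.1 hl
    exact ((Commute.mul_right (show Commute c t from h1) (show Commute c p from h2)).zpow_right i).symm.eq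
  have hup : u * t = t * u ∧ u * p = p * u := ⟨D.ut, hpu.symm⟩
  have hconjpu : ∀ l ∈ zpowers (t * p), ∀ y, l * p * l⁻¹ = y → IsConj t (y * u) := by
    intro l hl y hy
    rw [← hy, ← conj_of_comm (hDc l hl u hup.1 hup.2), conj_mul_conj, isConj_conj_iff]
    exact hpuc
  have hconjtu : ∀ l ∈ zpowers (t * p), ∀ y, l * t * l⁻¹ = y → ¬ IsConj t (y * u) := by
    intro l hl y hy
    rw [← hy, ← conj_of_comm (hDc l hl u hup.1 hup.2), conj_mul_conj, isConj_conj_iff]
    exact D.tu_free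
  rcases conj_or_central D.tt hpp with ⟨l, hl, e⟩ | ⟨z, hzm, hz2, hz1, hzt, hzp, l, hl, hlz⟩
  · exact hconjtu l hl p e hpuc
  have hzu : z * u = u * z := hDc z hzm u hup.1 hup.2
  have zH : z ∈ H := hCH (mem_centralizer_singleton_iff.2 hzt)
  have zwH : w⁻¹ * z * w ∈ H := centralizer_conj_le H hCH hodd hT D.tt bH D.b_conj (by
    have := comm_conj w⁻¹ hzp
    simpa [hp, mul_assoc] using this)
  have hzfree := hno z zH zwH
  have hzufree := hno (z * u) (H.mul_mem zH uH) (by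
    rw [show w⁻¹ * (z * u) * w = w⁻¹ * z * w * (w⁻¹ * u * w) by group, wu']
    exact H.mul_mem zwH uH)
  have htz : IsConj t (t * z) := by
    rcases hlz with e | e <;> rw [← e, isConj_conj_iff]
    exact hpc
  have hzu1 : z ≠ u := fun e => by
    subst e
    rcases hlz with e | e
    · exact D.tu_free (by rw [← e, isConj_conj_iff])
    · have := hconjpu l hl _ e
      rw [mul_assoc, hz2, mul_one] at this
      exact D.tu_free (htz)
  rcases D.child z hzt hzu hz2 hz1 hzu1 hzfree hzufree htz with ⟨-, hzv⟩ | ⟨htzu, hcard⟩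
  · refine hpH (cent_uv_le D H hCH hodd hT ⟨mem_centralizer_singleton_iff.2 hpu,
      mem_centralizer_singleton_iff.2 ?_⟩)
    rcases hzv with rfl | rfl
    · exact hzp.symm
    · have := (Commute.mul_right (show Commute p (v * u) from hzp.symm) (show Commute p u from hpu)).eq
      rwa [mul_assoc v u u, D.uu, mul_one] at this
  rcases hlz with e | e
  swap
  · exact htzu (hconjpu l hl _ e)
  -- `t` and `t * z` cannot be exchanged
  have lu : l * u = u * l := hDc l hl u hup.1 hup.2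
  have lz : l * z = z * l := hDc l hl z hzt hzp
  have tlt : t * l = l⁻¹ * t := by
    obtain ⟨n, rfl⟩ := (mem_powers_iff_mem_zpowers.2 hl : l ∈ Submonoid.powers (t * p))
    exact mul_pow_swap D.tt hpp n
  have l2 : l * l = z := by
    have h1 : t * l⁻¹ = l * t := by
      calc t * l⁻¹ = t * l⁻¹ * (t * t) := by rw [D.tt, mul_one]
        _ = t * (l⁻¹ * t) * t := by group
        _ = t * (t * l) * t := by rw [tlt]
        _ = l * t := by rw [← mul_assoc t t, D.tt, one_mul]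
    rw [← h1, mul_assoc] at e
    have h2 : l⁻¹ * l⁻¹ = z := mul_left_cancel e
    rw [← mul_inv_rev, inv_eq_iff_eq_inv, inv_eq_of_mul_eq_one_right hz2] at h2
    exact h2
  have lH : l ∈ H := single_t H hCH hodd hT D.tt (by
    rw [e]; exact H.mul_mem (hCH (mem_centralizer_singleton_iff.2 rfl)) zH)
  set S := cent3 t u z with hS
  have lS : l ∉ S := fun h => hz1 (by
    rw [conj_of_comm (mem_cent3.1 h).1] at e
    exact (mul_eq_left.1 e.symm))
  have hnorm : zpowers l ≤ normalizer (S : Set G) := by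
    rw [zpowers_le]
    refine mem_normalizer_fintype fun x hx => ?_
    obtain ⟨h1, h2, h3⟩ := mem_cent3.1 hx
    have h4 := comm_conj l h1
    have h5 := comm_conj l h2
    have h6 := comm_conj l h3
    rw [conj_of_comm lu] at h5
    rw [conj_of_comm lz] at h6
    rw [e] at h4
    refine mem_cent3.2 ⟨?_, h5, h6⟩
    have := (Commute.mul_right (show Commute (l * x * l⁻¹) (t * z) from h4) (show Commute (l * x * l⁻¹) z from h6)).eq
    rwa [mul_assoc t z z, hz2, mul_one] at this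
  have hl4 : l ^ 4 = 1 := by rw [show l ^ 4 = l * l * (l * l) by rw [show 4 = 2 + 2 from rfl, pow_add, pow_two], l2, hz2]
  set P := S ⊔ zpowers l with hP
  have hP2 : IsPGroup 2 ↥P := IsPGroup.to_sup_of_normal_left' (IsPGroup.of_card (n := 6) (by rw [hS, hcard]; norm_num))
    (isPGroup_zpowers_four hl4) hnorm
  have hPH : P ≤ H := sup_le (fun x hx => hCH (mem_cent3.1 hx |> fun h => mem_centralizer_singleton_iff.2 h.1))
    (zpowers_le.2 lH)
  have h128 : 128 ≤ Nat.card ↥P := by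
    obtain ⟨n, hn⟩ := IsPGroup.iff_card.1 hP2
    have hlt : 64 < Nat.card ↥P := by
      rw [← hcard]
      exact lt_of_le_of_ne (card_le_of_le le_sup_left) fun h =>
        lS ((eq_of_le_of_card_ge (le_sup_left : S ≤ P) h.ge).ge (le_sup_right (a := S) (mem_zpowers l)))
    rw [hn] at hlt ⊢
    have := (Nat.pow_lt_pow_iff_right (by norm_num : 1 < 2)).1 (show 2 ^ 6 < 2 ^ n by norm_num; exact hlt)
    exact le_trans (by norm_num) (Nat.pow_le_pow_right (by norm_num) (show 7 ≤ n by omega))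
  obtain ⟨h, hh, hc⟩ := exists_conj_mem H hCH hodd hP2 hPH
  have tP : t ∈ P := le_sup_left (b := zpowers l) (mem_cent3.2 ⟨rfl, D.ut.symm, hzt.symm⟩ : t ∈ S)
  have uP : u ∈ P := le_sup_left (b := zpowers l) (mem_cent3.2 ⟨D.ut, rfl, hzu.symm⟩ : u ∈ S)
  have zP : z ∈ P := le_sup_left (b := zpowers l) (mem_cent3.2 ⟨hzt, hzu, rfl⟩ : z ∈ S)
  have hPc : P ≤ centralizer ({u} : Set G) ⊓ centralizer ({z} : Set G) :=
    sup_le (fun x hx => ⟨mem_centralizer_singleton_iff.2 (mem_cent3.1 hx).2.1,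
      mem_centralizer_singleton_iff.2 (mem_cent3.1 hx).2.2⟩)
      (zpowers_le.2 ⟨mem_centralizer_singleton_iff.2 lu, mem_centralizer_singleton_iff.2 lz⟩)
  have hP' : P.map (MulAut.conj h).toMonoidHom ≤ cent3 t (h * u * h⁻¹) (h * z * h⁻¹) := by
    rintro _ ⟨x, hx, rfl⟩
    exact mem_cent3.2 ⟨hc x hx, comm_conj h (mem_centralizer_singleton_iff.1 (hPc hx).1),
      comm_conj h (mem_centralizer_singleton_iff.1 (hPc hx).2)⟩
  have hb := (D.bound (h * u * h⁻¹) (h * z * h⁻¹) (hc u uP) (hc z zP) (comm_conj h hzu.symm)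
    (by rw [conj_mul_conj, D.uu]; group) (by rw [conj_mul_conj, hz2]; group)
    (fun e => D.u_ne (conj_eq_one_iff.1 e)) (fun e => hz1 (conj_eq_one_iff.1 e))
    (fun e => hzu1 (mul_left_cancel (mul_right_cancel e)).symm)
    (fun e => D.u_free ((isConj_conj_iff h).1 e)) (fun e => hzfree ((isConj_conj_iff h).1 e))
    (fun e => hzufree (by rw [conj_mul_conj, ← hzu, isConj_conj_iff] at e; exact e))).2
    (h128.trans ((card_map_of_injective (MulAut.conj h).injective).symm.le.trans (card_le_of_le hP')))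
    (h * t * h⁻¹) (hP' (mem_map.2 ⟨t, tP, rfl⟩)) (isConj_iff.2 ⟨h, rfl⟩)
    (by rw [conj_mul_conj, isConj_conj_iff]; exact htz)
  rw [conj_mul_conj, conj_mul_conj, isConj_conj_iff, isConj_conj_iff] at hb
  rcases hb with h1 | h1
  · exact D.tu_free h1
  · rw [mul_assoc, ← hzu, ← mul_assoc] at h1
    exact htzu h1

include D in
/-- The subgroup is the whole group. -/
theorem eq_top_of_data
    (hF : ∀ x, x * t = t * x → x * x = 1 → x ≠ 1 → ¬ IsConj t x → ∃ h ∈ H, h * u * h⁻¹ = x) : H = ⊤ := by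
  have hCu := cent_u_le D H hCH hodd hT
  have single_u : ∀ g, g * u * g⁻¹ ∈ H → g ∈ H := by
    intro g hg
    obtain ⟨h, hh, hc⟩ := exists_conj_mem H hCH hodd (isPGroup_zpowers (a := g * u * g⁻¹)
      (by rw [conj_mul_conj, D.uu]; group)) (zpowers_le.2 hg)
    have e : h * (g * u * g⁻¹) * h⁻¹ = h * g * u * (h * g)⁻¹ := by group
    have hC := hc _ (mem_zpowers _)
    rw [e] at hC
    obtain ⟨k, hk, hkx⟩ := hF _ hC (by rw [conj_mul_conj, D.uu]; group)
      (fun e => D.u_ne (conj_eq_one_iff.1 e)) (fun e => D.u_free ((isConj_conj_iff (h * g)).1 e))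
    have hcom : k⁻¹ * (h * g) ∈ centralizer ({u} : Set G) := mem_centralizer_singleton_iff.2 (by
      calc k⁻¹ * (h * g) * u = k⁻¹ * (h * g * u * (h * g)⁻¹) * (h * g) := by group
        _ = k⁻¹ * (k * u * k⁻¹) * (h * g) := by rw [hkx]
        _ = u * (k⁻¹ * (h * g)) := by group)
    have := H.mul_mem (H.mul_mem (H.inv_mem hh) hk) (hCu hcom)
    rwa [show h⁻¹ * k * (k⁻¹ * (h * g)) = g by group] at this
  refine eq_top_iff.2 fun g _ => ?_
  by_contra hg
  set p := g * u * g⁻¹ with hp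
  rcases conj_or_central D.tt (show p * p = 1 by rw [hp, conj_mul_conj, D.uu]; group) with
    ⟨l, -, e⟩ | ⟨z, -, hz2, hz1, hzt, hzp, -⟩
  · exact D.u_free ((isConj_conj_iff g).1 (isConj_iff.2 ⟨l, e⟩))
  have zH : z ∈ H := hCH (mem_centralizer_singleton_iff.2 hzt)
  have zgH : g⁻¹ * z * g ∈ H := hCu (mem_centralizer_singleton_iff.2 (by
    have := comm_conj g⁻¹ hzp
    simpa [hp, mul_assoc] using this))
  by_cases hc : IsConj t z
  · exact hg (single_conj H hCH hodd hT D.tt zH hc zgH)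
  obtain ⟨k, hk, rfl⟩ := hF z hzt hz2 hz1 hc
  have h2 : g⁻¹ * k ∈ H := single_u _ (by
    rwa [show g⁻¹ * k * u * (g⁻¹ * k)⁻¹ = g⁻¹ * (k * u * k⁻¹) * g by group])
  exact hg (by simpa [mul_assoc] using H.mul_mem hk (H.inv_mem h2))

end

end CfsgLib.HeldTri
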