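import Cfsg.Agent.Lib.HeldTri.Generated.Main

/-!
An elementary group containing every conjugate commuting with it is normal: the case of the vector stabiliser.
-/

set_option autoImplicit false
set_option linter.unusedSectionVars false

namespace CfsgLib.HeldTri

open Subgroup

variable {G : Type*} [Group G] [Finite G] {t : G} {E : Subgroup G}

section

variable (ht : t * t = 1)
  (htr : ∀ x ∈ E, x ≠ 1 → ∃ k ∈ normalizer (E : Set G), k * t * k⁻¹ = x)
  (hcl : ∀ x, x * t = t * x → IsConj t x → x ∈ E)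

include htr in
theorem conj_of_mem {x : G} (hx : x ∈ E) (hx1 : x ≠ 1) : IsConj t x := by
  obtain ⟨k, -, e⟩ := htr x hx hx1
  exact isConj_iff.2 ⟨k, e⟩

include htr hcl in
/-- The conjugates commuting with an element of `E` lie in `E`. -/
theorem mem_of_comm {e : G} (he : e ∈ E) (he1 : e ≠ 1) {x : G} (hx : x * e = e * x) (hc : IsConj t x) : x ∈ E := by
  obtain ⟨k, hk, rfl⟩ := htr e he he1
  have h : k⁻¹ * x * k * t = t * (k⁻¹ * x * k) := by
    calc k⁻¹ * x * k * t = k⁻¹ * (x * (k * t * k⁻¹)) * k := by group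
      _ = k⁻¹ * (k * t * k⁻¹ * x) * k := by rw [hx]
      _ = t * (k⁻¹ * x * k) := by group
  have hm := hcl _ h (hc.trans (isConj_iff.2 ⟨k⁻¹, by group⟩))
  have := (mem_normalizer_iff.1 hk _).1 hm
  rwa [show k * (k⁻¹ * x * k) * k⁻¹ = x by group] at this

include ht htr in
theorem sq_one {x : G} (hx : x ∈ E) : x * x = 1 := by
  by_cases hx1 : x = 1
  · rw [hx1, one_mul]
  obtain ⟨k, -, rfl⟩ := htr x hx hx1
  rw [conj_mul_conj, ht]; group

include ht htr in
theorem commE {x y : G} (hx : x ∈ E) (hy : y ∈ E) : x * y = y * x := by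
  have h1 := inv_eq_of_mul_eq_one_right (sq_one ht htr hx)
  have h2 := inv_eq_of_mul_eq_one_right (sq_one ht htr hy)
  have h3 := inv_eq_of_mul_eq_one_right (sq_one ht htr (E.mul_mem hx hy))
  rw [← h3, mul_inv_rev, h1, h2]

include ht htr hcl in
/-- An element moving a nontrivial element of `E` into `E` normalises `E`. -/
theorem mem_normalizer_of_conj {x : G} (hx : x ∈ E) (hx1 : x ≠ 1) {g : G} (hg : g * x * g⁻¹ ∈ E) :
    g ∈ normalizer (E : Set G) := by
  refine mem_normalizer_fintype fun y hy => ?_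
  by_cases hy1 : y = 1
  · simp [hy1]
  exact mem_of_comm htr hcl hg (fun e => hx1 (conj_eq_one_iff.1 e)) (comm_conj g (commE ht htr hy hx))
    ((isConj_conj_iff g).2 (conj_of_mem htr hy hy1))

include ht htr in
/-- An involution normalising `E` fixes a nontrivial element. -/
theorem exists_fixed_mem (hcard : Nat.card ↥E = 16) {x : G} (hx : x ∈ normalizer (E : Set G)) (hx2 : x * x = 1) :
    ∃ a ∈ E, a ≠ 1 ∧ x * a = a * x := by
  have hxi : x⁻¹ = x := inv_eq_of_mul_eq_one_right hx2
  by_cases h : ∀ a ∈ E, x * a * x⁻¹ = a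
  · obtain ⟨a, ha1⟩ : ∃ a : ↥E, a ≠ 1 := by
      haveI : Nontrivial ↥E := Finite.one_lt_card_iff_nontrivial.1 (by omega)
      exact exists_ne 1
    exact ⟨a, a.2, fun e => ha1 (Subtype.ext e), mul_inv_eq_iff_eq_mul.1 (h a a.2)⟩
  · simp only [not_forall] at h
    obtain ⟨a, ha, hne⟩ := h
    have hb := (mem_normalizer_iff.1 hx _).1 ha
    refine ⟨a * (x * a * x⁻¹), E.mul_mem ha hb, fun e => hne ?_, mul_inv_eq_iff_eq_mul.1 ?_⟩
    · rw [eq_inv_of_mul_eq_one_right e, inv_eq_of_mul_eq_one_right (sq_one ht htr ha)]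
    · rw [← conj_mul_conj, show x * (x * a * x⁻¹) * x⁻¹ = x * x * a * (x * x)⁻¹ by group, hx2,
        commE ht htr ha hb]
      simp

include ht htr hcl in
/-- The involutions outside moving few elements of `E` have centraliser in the normaliser. -/
theorem cent_small_le {y : G} (hy2 : y * y = 1)
    (hcard : Nat.card ↥E = 16) (hyC : Nat.card ↥(E ⊓ centralizer ({y} : Set G)) = 8)
    (hyE : y ∈ normalizer (E : Set G)) : centralizer ({y} : Set G) ≤ normalizer (E : Set G) := by
  set C := E ⊓ centralizer ({y} : Set G) with hC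
  have hyi : y⁻¹ = y := inv_eq_of_mul_eq_one_right hy2
  obtain ⟨f, hfE, hfC⟩ : ∃ f ∈ E, f * y ≠ y * f := by
    by_contra h
    simp only [not_exists, not_and, not_not] at h
    have : C = E := inf_eq_left.2 fun f hf => mem_centralizer_singleton_iff.2 (h f hf)
    rw [this, hcard] at hyC
    omega
  set c := f * (y * f * y⁻¹) with hc
  have hcE : c ∈ E := E.mul_mem hfE ((mem_normalizer_iff.1 hyE _).1 hfE)
  have hc1 : c ≠ 1 := fun h => hfC (by
    have e : y * f * y⁻¹ = f := by
      rw [eq_inv_of_mul_eq_one_right h, inv_eq_of_mul_eq_one_right (sq_one ht htr hfE)]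
    exact (mul_inv_eq_iff_eq_mul.1 e).symm)
  have hcy : c * y = y * c := by
    have e : y * c * y⁻¹ = c := by
      rw [hc, ← conj_mul_conj, show y * (y * f * y⁻¹) * y⁻¹ = y * y * f * (y * y)⁻¹ by group, hy2,
        commE ht htr hfE ((mem_normalizer_iff.1 hyE _).1 hfE)]
      simp
    exact (mul_inv_eq_iff_eq_mul.1 e).symm
  -- the commutators with `y` are `1` and `c`
  have hcomm : ∀ f' ∈ E, f' * (y * f' * y⁻¹) = 1 ∨ f' * (y * f' * y⁻¹) = c := by
    intro f' hf'
    have hsq : ∀ d ∈ C, d * (y * d * y⁻¹) = 1 := fun d hd => by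
      rw [← mem_centralizer_singleton_iff.1 hd.2, mul_inv_cancel_right, sq_one ht htr hd.1]
    by_cases h : f' ∈ C
    · exact .inl (hsq f' h)
    right
    have hidx : (C.subgroupOf E).index = 2 := by
      have := (C.subgroupOf E).card_mul_index
      rw [Nat.card_congr (subgroupOfEquivOfLe inf_le_left).toEquiv, hyC, hcard] at this
      omega
    have hmem : (⟨f, hfE⟩ : ↥E) * ⟨f', hf'⟩ ∈ C.subgroupOf E := by
      rw [mul_mem_iff_of_index_two hidx, mem_subgroupOf, mem_subgroupOf]
      exact ⟨fun hh => absurd (mem_centralizer_singleton_iff.1 hh.2) hfC, fun hh => absurd hh h⟩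
    have hd : f * f' ∈ C := mem_subgroupOf.1 hmem
    have h1 := hsq _ hd
    rw [← conj_mul_conj] at h1
    have hy' := (mem_normalizer_iff.1 hyE _).1 hf'
    have hy'' := (mem_normalizer_iff.1 hyE _).1 hfE
    have h2 : c * (f' * (y * f' * y⁻¹)) = 1 := by
      rw [hc, Commute.mul_mul_mul_comm (commE ht htr hy'' hf') f (y * f' * y⁻¹), h1]
    rw [eq_inv_of_mul_eq_one_right h2, inv_eq_of_mul_eq_one_right (sq_one ht htr hcE)]
  obtain ⟨d, hdC, hd1, hdc⟩ : ∃ d ∈ C, d ≠ 1 ∧ d ≠ c := by
    by_contra h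
    have hsub : (C : Set G) ⊆ {1, c} := fun d hd => by
      by_contra hd'
      simp only [Set.mem_insert_iff, Set.mem_singleton_iff, not_or] at hd'
      exact h ⟨d, hd, hd'.1, hd'.2⟩
    have := Set.ncard_le_ncard hsub (Set.toFinite _)
    rw [← Nat.card_coe_set_eq, SetLike.coe_sort_coe, hyC, Set.ncard_pair hc1.symm] at this
    omega
  intro w hw
  by_contra hwN
  have hwy : w * y = y * w := mem_centralizer_singleton_iff.1 hw
  have hdy : d * y = y * d := mem_centralizer_singleton_iff.1 hdC.2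
  set p := w * d * w⁻¹ with hp
  have hpy : p * y = y * p := by
    have := comm_conj w hdy
    rwa [conj_of_comm hwy] at this
  have hpc : IsConj t p := (isConj_conj_iff w).2 (conj_of_mem htr hdC.1 hd1)
  have hpE : p ∉ E := fun h => hwN (mem_normalizer_of_conj ht htr hcl hdC.1 hd1 h)
  rcases conj_or_central (sq_one ht htr hcE) (show p * p = 1 by rw [hp, conj_mul_conj, sq_one ht htr hdC.1]; group) with
    ⟨l, hl, e⟩ | ⟨z, -, -, hz1, hzc, hzp, l, -, hlz⟩
  · obtain ⟨i, rfl⟩ := mem_zpowers_iff.1 hl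
    set l := (c * p) ^ i
    have hly : l * y = y * l :=
      ((Commute.mul_left (show Commute c y from hcy) (show Commute p y from hpy)).zpow_left i).eq
    set m := w⁻¹ * l with hm
    have hmy : m * y = y * m := by
      rw [hm, mul_assoc, hly, ← mul_assoc, (Commute.inv_left (show Commute w y from hwy)).eq, mul_assoc]
    have hmd : m * c * m⁻¹ = d := by
      rw [hm, show w⁻¹ * l * c * (w⁻¹ * l)⁻¹ = w⁻¹ * (l * c * l⁻¹) * w by group, e, hp]; group
    have hmN := mem_normalizer_of_conj ht htr hcl hcE hc1 (g := m) (by rw [hmd]; exact hdC.1)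
    rcases hcomm _ ((mem_normalizer_iff.1 hmN _).1 hfE) with h | h
    · refine hd1 ?_
      rw [← hmd, hc, ← conj_mul_conj, show m * (y * f * y⁻¹) * m⁻¹ = (m * y) * f * (m * y)⁻¹ by group, hmy,
        show y * m * f * (y * m)⁻¹ = y * (m * f * m⁻¹) * y⁻¹ by group, h]
    · refine hdc ?_
      rw [← hmd]
      nth_rw 1 [hc]
      rw [← conj_mul_conj, show m * (y * f * y⁻¹) * m⁻¹ = (m * y) * f * (m * y)⁻¹ by group, hmy,
        show y * m * f * (y * m)⁻¹ = y * (m * f * m⁻¹) * y⁻¹ by group, h]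
  · have hT : IsConj t (c * z) := by
      rcases hlz with e | e <;> rw [← e, isConj_conj_iff]
      · exact conj_of_mem htr hcE hc1
      · exact hpc
    have hzE : z ∈ E := by
      have := E.mul_mem hcE (mem_of_comm htr hcl hcE hc1 (by rw [mul_assoc, hzc]) hT)
      rwa [← mul_assoc, sq_one ht htr hcE, one_mul] at this
    exact hpE (mem_of_comm htr hcl hzE hz1 hzp.symm hpc)

include ht htr hcl in
/-- The subgroup is normal. -/
theorem normalizer_eq_top (htE : t ∈ E) (ht1 : t ≠ 1) (hcard : Nat.card ↥E = 16) {y : G} (hy2 : y * y = 1)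
    (hyt : y * t = t * y) (hyfree : ¬ IsConj t y)
    (hyC : Nat.card ↥(E ⊓ centralizer ({y} : Set G)) = 8) : normalizer (E : Set G) = ⊤ := by
  have hCt : centralizer ({t} : Set G) ≤ normalizer (E : Set G) := fun k hk =>
    mem_normalizer_of_conj ht htr hcl htE ht1 (by rwa [conj_of_comm (mem_centralizer_singleton_iff.1 hk)])
  have hyN : y ∈ normalizer (E : Set G) := hCt (mem_centralizer_singleton_iff.2 hyt)
  refine eq_top_iff.2 fun w _ => ?_
  by_contra hwN
  have hb : w * y * w⁻¹ * (w * y * w⁻¹) = 1 := by rw [conj_mul_conj, hy2]; group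
  rcases conj_or_central ht hb with ⟨l, -, e⟩ | ⟨z, -, hz2, hz1, hzt, hzp, l, hl, hlz⟩
  · exact hyfree ((isConj_conj_iff w).1 (isConj_iff.2 ⟨l, e⟩))
  have hz' : w⁻¹ * z * w * y = y * (w⁻¹ * z * w) := by
    have := comm_conj w⁻¹ hzp
    simpa [mul_assoc] using this
  have hmN := cent_small_le ht htr hcl hy2 hcard hyC hyN (mem_centralizer_singleton_iff.2 hz')
  rcases hlz with e | e
  · have hzE : z ∈ E := by
      have := E.mul_mem htE (hcl (t * z) (by rw [mul_assoc, hzt]) (e ▸ isConj_iff.2 ⟨l, rfl⟩))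
      rwa [← mul_assoc, ht, one_mul] at this
    have hzE' : w⁻¹ * z * w ∈ E := by
      -- it fixes a nontrivial element of `E`
      obtain ⟨k, hk, ek⟩ := htr z hzE hz1
      have hconj : IsConj t (w⁻¹ * z * w) := (conj_of_mem htr hzE hz1).trans (isConj_iff.2 ⟨w⁻¹, by group⟩)
      obtain ⟨a, haE, ha1, hay⟩ := exists_fixed_mem ht htr hcard hmN
        (by rw [show w⁻¹ * z * w * (w⁻¹ * z * w) = w⁻¹ * (z * z) * w by group, hz2]; group)
      exact mem_of_comm htr hcl haE ha1 hay hconj
    exact hwN (inv_mem_iff.1 (mem_normalizer_of_conj ht htr hcl hzE hz1 (g := w⁻¹) (by rwa [inv_inv])))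
  · -- `y z'` is a conjugate of `t`
    set z' := w⁻¹ * z * w with hz'def
    have hz'2 : z' * z' = 1 := by
      rw [hz'def, show w⁻¹ * z * w * (w⁻¹ * z * w) = w⁻¹ * (z * z) * w by group, hz2]; group
    have hlz' : l * z = z * l := by
      obtain ⟨i, rfl⟩ := mem_zpowers_iff.1 hl
      exact ((Commute.mul_left (show Commute t z from hzt.symm)
        (show Commute (w * y * w⁻¹) z from hzp.symm)).zpow_left i).eq
    have hT : IsConj t (y * z') := by
      rw [← isConj_conj_iff (l * w), hz'def,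
        show l * w * (y * (w⁻¹ * z * w)) * (l * w)⁻¹ = l * (w * y * w⁻¹) * l⁻¹ * (l * z * l⁻¹) by group, e,
        conj_of_comm hlz', mul_assoc, hz2, mul_one]
    have hq2 : y * z' * (y * z') = 1 := by
      rw [mul_assoc, ← mul_assoc z', hz', mul_assoc, hz'2, mul_one, hy2]
    obtain ⟨a, haE, ha1, hay⟩ := exists_fixed_mem ht htr hcard (mul_mem hyN hmN) hq2
    have hqE := mem_of_comm htr hcl haE ha1 hay hT
    set q := y * z' with hq
    have hzy : z' = y * q := by rw [hq, ← mul_assoc, hy2, one_mul]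
    clear_value q
    have hsame : E ⊓ centralizer ({z'} : Set G) = E ⊓ centralizer ({y} : Set G) := by
      ext f
      simp only [mem_inf, mem_centralizer_singleton_iff]
      refine and_congr_right fun hf => ?_
      have hfq := commE ht htr hf hqE
      rw [hzy]
      constructor
      · intro h
        rw [← mul_assoc, mul_assoc y q f, ← hfq, ← mul_assoc] at h
        exact mul_right_cancel h
      · intro h
        rw [← mul_assoc, h, mul_assoc, hfq, ← mul_assoc]
    have hgood := cent_small_le ht htr hcl hz'2 hcard (hsame ▸ hyC) hmN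
    -- `t` commutes with `z`
    have htw : w⁻¹ * t * w ∈ normalizer (E : Set G) := hgood (mem_centralizer_singleton_iff.2 (by
      have := comm_conj w⁻¹ hzt.symm
      simpa [hz'def] using this))
    obtain ⟨a', ha'E, ha'1, ha'y⟩ := exists_fixed_mem ht htr hcard htw
      (by rw [show w⁻¹ * t * w * (w⁻¹ * t * w) = w⁻¹ * (t * t) * w by group, ht]; group)
    exact hwN (inv_mem_iff.1 (mem_normalizer_of_conj ht htr hcl htE ht1 (g := w⁻¹) (by
      rw [inv_inv]
      exact mem_of_comm htr hcl ha'E ha'1 ha'y (isConj_iff.2 ⟨w⁻¹, by group⟩))))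

end

end CfsgLib.HeldTri
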